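import Cfsg.Agent.H17.AltEight.Local
import Cfsg.Agent.H17.AltEight.Types64
import Cfsg.Agent.S3331
import Cfsg.Agent.H6.Exist

/-!
The centraliser of a fixed-point-free involution, and the identification of the whole group.
-/

set_option autoImplicit false
set_option maxHeartbeats 1000000
set_option maxRecDepth 8000

namespace Cfsg.Agent.H17.AltEight

open Equiv

theorem inverts_of_fixedPointFree {G : Type*} [Group G] [Finite G] (O : Subgroup G) {x : G}
    (hx : x * x = 1) (hn : ∀ p ∈ O, x * p * x⁻¹ ∈ O) (hfree : ∀ p ∈ O, Commute p x → p = 1) :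
    ∀ p ∈ O, x * p * x⁻¹ = p⁻¹ := by
  let φ : O →* O :=
    { toFun := fun p => ⟨x * p * x⁻¹, hn p p.2⟩
      map_one' := Subtype.ext (by simp)
      map_mul' := fun p q => Subtype.ext (by simp [mul_assoc]) }
  have hfix : MonoidHom.FixedPointFree φ := fun p hp =>
    Subtype.ext (hfree p p.2 (mul_inv_eq_iff_eq_mul.1 (congrArg Subtype.val hp)).symm)
  have hinv : Function.Involutive φ := fun p => Subtype.ext (by
    show x * (x * p * x⁻¹) * x⁻¹ = p
    rw [inv_eq_of_mul_eq_one_right hx]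
    calc x * (x * p * x) * x = x * x * p * (x * x) := by group
      _ = p := by rw [hx]; group)
  intro p hp
  exact congrArg Subtype.val (congrFun (hfix.coe_eq_inv_of_involutive hinv) ⟨p, hp⟩)

namespace Sys

variable {G : Type*} [Group G] {S : Sys G}

namespace Ext

attribute [local irreducible] Sys.Ext.f

variable (E : S.Ext)

/-- The image of the Sylow subgroup of order sixty-four. -/
def S64 : Subgroup G where
  carrier := {g | ∃ p, InS64 p ∧ E.f p = g}
  mul_mem' := by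
    rintro _ _ ⟨p, hp, rfl⟩ ⟨q, hq, rfl⟩
    exact ⟨p * q, hp.mul hq, E.f_mul hp.1 hq.1⟩
  one_mem' := ⟨1, InS64.one, E.f_one⟩
  inv_mem' := by
    rintro _ ⟨p, hp, rfl⟩
    refine ⟨p⁻¹, ?_, E.f_inv hp.1⟩
    have hpow : ∀ n : ℕ, InS64 (p ^ n) := fun n => by
      induction n with
      | zero => exact InS64.one
      | succ n ih => rw [pow_succ]; exact ih.mul hp
    rw [show p⁻¹ = p ^ (orderOf p - 1) from by
      refine inv_eq_of_mul_eq_one_right ?_
      rw [← pow_succ', Nat.sub_add_cancel (orderOf_pos p), pow_orderOf_eq_one]]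
    exact hpow _

theorem card_S64 : Nat.card E.S64 = 64 := by
  have hmem : ∀ x : P32, InS32 (glue44 x.1.1 x.1.2) := fun x => (InS32_glue _ _).2 x.2
  have hsig : InS64 sig := pn_facts.2.2.2.2.2.2.2.2.2.2.2.2.2.1
  have hk : ∀ k : Fin 2, InS64 (sig ^ k.val) := fun k => by
    fin_cases k
    · simpa using InS64.one
    · simpa using hsig
  let el : P32 × Fin 2 → P8 := fun x => glue44 x.1.1.1 x.1.1.2 * sig ^ x.2.val
  have hel : ∀ x, InS64 (el x) := fun x => (hmem x.1).to64.mul (hk x.2)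
  let φ : P32 × Fin 2 → E.S64 := fun x => Subtype.mk (E.f (el x)) (Exists.intro (el x) ⟨hel x, rfl⟩)
  have hb : Function.Bijective φ := by
    constructor
    · rintro ⟨x, k⟩ ⟨y, l⟩ h
      have he : glue44 x.1.1 x.1.2 * sig ^ k.val = glue44 y.1.1 y.1.2 * sig ^ l.val :=
        E.f_inj (p := el (x, k)) (q := el (y, l)) (hel _).1 (hel _).1 (congrArg Subtype.val h)
      have hkl : k = l := by
        by_contra hne
        have hmul := ((hmem y).inv.mul (hmem x)).2.1
        have e : (glue44 y.1.1 y.1.2)⁻¹ * glue44 x.1.1 x.1.2 = sig ^ l.val * (sig ^ k.val)⁻¹ := by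
          rw [eq_mul_inv_iff_mul_eq, mul_assoc, he, inv_mul_cancel_left]
        rw [e] at hmul
        have h2 : ∀ k l : Fin 2, k ≠ l → sig ^ l.val * (sig ^ k.val)⁻¹ = sig := by decide +kernel
        rw [h2 k l hne] at hmul
        exact pn_facts.2.2.2.2.2.2.2.2.2.2.2.2.2.2.1 hmul
      subst hkl
      obtain ⟨e1, e2⟩ := glue44_inj.1 (mul_right_cancel he)
      exact Prod.ext (Subtype.ext (Prod.ext e1 e2)) rfl
    · rintro ⟨_, p, hp, rfl⟩
      obtain ⟨s, k, hs, rfl⟩ := hp.decomp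
      obtain ⟨a, b, rfl⟩ := C_pt_form hs.2.1
      exact ⟨⟨⟨(a, b), (InS32_glue a b).1 hs⟩, k⟩, rfl⟩
  rw [← Nat.card_congr (Equiv.ofBijective φ hb), Nat.card_prod, Nat.card_eq_fintype_card, card_P32,
    Nat.card_eq_fintype_card, Fintype.card_fin]

theorem S64_isPGroup : IsPGroup 2 E.S64 :=
  IsPGroup.of_card (n := 6) (by rw [E.card_S64]; norm_num)

theorem S64_le : E.S64 ≤ E.H := by
  rintro _ ⟨p, -, rfl⟩
  exact E.f_mem p

theorem S64_self_norm [Finite G] {g : G} (hn : ∀ x ∈ E.S64, g * x * g⁻¹ ∈ E.S64) : g ∈ E.S64 := by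
  have sT := InK_basic.2.2.1.2
  have hninv : ∀ x ∈ E.S64, g⁻¹ * x * g ∈ E.S64 := by
    have hmap : E.S64.map (MulAut.conj g).toMonoidHom = E.S64 := by
      refine Subgroup.eq_of_le_of_card_ge ?_ ?_
      · rintro _ ⟨x, hx, rfl⟩; exact hn x hx
      · rw [Subgroup.card_map_of_injective (MulAut.conj g).injective]
    intro x hx
    rw [← hmap] at hx
    obtain ⟨y, hy, rfl⟩ := hx
    show g⁻¹ * (g * y * g⁻¹) * g ∈ E.S64
    rw [show g⁻¹ * (g * y * g⁻¹) * g = y by group]
    exact hy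
  have key : ∀ g : G, (∀ x ∈ E.S64, g * x * g⁻¹ ∈ E.S64) → (∀ x ∈ E.S64, g⁻¹ * x * g ∈ E.S64) →
      g * E.f pt * g⁻¹ = E.f pt ∨ g * E.f pt * g⁻¹ = E.f x7 := by
    intro g hn hninv
    obtain ⟨p, hp, he⟩ := hn _ ⟨pt, pn_facts.2.2.2.2.2.2.2.2.2.2.2.2.1, rfl⟩
    have hp2 : p * p = 1 := by
      refine E.f_inj (by rw [map_mul, hp.1, one_mul]) (map_one _) ?_
      rw [E.f_mul hp.1 hp.1, he, E.f_one]
      calc g * E.f pt * g⁻¹ * (g * E.f pt * g⁻¹) = g * (E.f pt * E.f pt) * g⁻¹ := by group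
        _ = 1 := by rw [E.f_sq sT rep_facts.1]; group
    have hp1 : p ≠ 1 := fun h => E.f_ne_one sT rep_facts.2.1 (by
      rw [h, E.f_one] at he
      calc E.f pt = g⁻¹ * (g * E.f pt * g⁻¹) * g := by group
        _ = 1 := by rw [← he]; group)
    have hp4 : FourPts p := E.fourPts_of_conj hp.1 hp2 hp1 (isConj_iff.2 ⟨g, he.symm⟩)
    by_cases ht : p = pt
    · left; rw [← he, ht]
    by_cases hx : p = x7
    · right; rw [← he, hx]
    exfalso
    obtain ⟨i, j, h1, h2, h3⟩ := S64_separate hp hp2 hp4 ht hx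
    have hclass : ∀ k, ∃ q, (q = pt ∨ q = x7) ∧
        E.f (movers64 k * p * (movers64 k)⁻¹) = g * E.f q * g⁻¹ := by
      intro k
      obtain ⟨r, hr, hre⟩ := hninv _ ⟨_, movers64_mem k, rfl⟩
      refine ⟨r * pt * r⁻¹, hr.2.2, ?_⟩
      rw [E.f_conj (movers64_mem k).1 hp.1, E.f_conj hr.1 sT, hre, he]
      group
    have h0 : ∃ q, (q = pt ∨ q = x7) ∧ E.f p = g * E.f q * g⁻¹ := ⟨pt, Or.inl rfl, he⟩
    obtain ⟨q0, hq0, e0⟩ := h0
    obtain ⟨qi, hqi, ei⟩ := hclass i
    obtain ⟨qj, hqj, ej⟩ := hclass j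
    have si : Perm.sign (movers64 i * p * (movers64 i)⁻¹) = 1 := by
      rw [map_mul, map_mul, Perm.sign_inv, (movers64_mem i).1, hp.1]; rfl
    have sj : Perm.sign (movers64 j * p * (movers64 j)⁻¹) = 1 := by
      rw [map_mul, map_mul, Perm.sign_inv, (movers64_mem j).1, hp.1]; rfl
    have ni : qi ≠ q0 := fun h => h1 (E.f_inj si hp.1 (by rw [ei, e0, h]))
    have nj : qj ≠ q0 := fun h => h2 (E.f_inj sj hp.1 (by rw [ej, e0, h]))
    have nij : qi ≠ qj := fun h => h3 (E.f_inj si sj (by rw [ei, ej, h]))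
    rcases hq0 with rfl | rfl <;> rcases hqi with rfl | rfl <;> rcases hqj with rfl | rfl <;>
      first | exact ni rfl | exact nj rfl | exact nij rfl
  set s := E.f sig
  have hsig : InS64 sig := pn_facts.2.2.2.2.2.2.2.2.2.2.2.2.2.1
  have hs : s ∈ E.S64 := ⟨sig, hsig, rfl⟩
  have hgt := key g hn hninv
  have hgx := key (g * s)
    (fun x hx => by
      rw [show g * s * x * (g * s)⁻¹ = g * (s * x * s⁻¹) * g⁻¹ by group]
      exact hn _ (mul_mem (mul_mem hs hx) (inv_mem hs)))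
    (fun x hx => by
      rw [show (g * s)⁻¹ * x * (g * s) = s⁻¹ * (g⁻¹ * x * g) * s by group]
      exact mul_mem (mul_mem (inv_mem hs) (hninv x hx)) hs)
  have hsx : s * E.f pt * s⁻¹ = E.f x7 := by
    rw [← E.f_conj hsig.1 sT, sig_inv, pn_facts.2.2.2.2.2.2.2.1]
  rw [show g * s * E.f pt * (g * s)⁻¹ = g * (s * E.f pt * s⁻¹) * g⁻¹ by group, hsx] at hgx
  have sX : Perm.sign x7 = 1 := X_facts.1.1
  have hne : g * E.f pt * g⁻¹ ≠ g * E.f x7 * g⁻¹ := fun h =>
    pn_facts.2.2.2.2.2.2.2.2.2.2.2.2.2.2.2 (E.f_inj sT sX (mul_left_cancel (mul_right_cancel h)))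
  have hn' : g * E.f pn * g⁻¹ = E.f pn := by
    have e : g * E.f pn * g⁻¹ = g * E.f pt * g⁻¹ * (g * E.f x7 * g⁻¹) := by
      rw [← pn_facts.2.2.2.2.1, E.f_mul sT sX]; group
    rw [e]
    rcases hgt with h | h <;> rcases hgx with h' | h' <;> rw [h, h']
    · exact absurd (h.trans h'.symm) hne
    · rw [← E.f_mul sT sX, pn_facts.2.2.2.2.1]
    · rw [← E.f_mul sX sT, pn_facts.2.2.2.2.2.1]
    · exact absurd (h.trans h'.symm) hne
  have hgH : g ∈ E.H := by
    rcases hgt with h | h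
    · exact E.ctrl_t g (mul_inv_eq_iff_eq_mul.1 h)
    · have h2 : s * g * E.f pt * (s * g)⁻¹ = E.f pt := by
        calc s * g * E.f pt * (s * g)⁻¹ = s * (g * E.f pt * g⁻¹) * s⁻¹ := by group
          _ = E.f pt := by rw [h, ← E.f_conj hsig.1 sX, sig_inv, pn_facts.2.2.2.2.2.2.2.2.1]
      have h3 := mul_mem (inv_mem (E.f_mem sig)) (E.ctrl_t _ (mul_inv_eq_iff_eq_mul.1 h2))
      rwa [show s⁻¹ * (s * g) = g by group] at h3
  obtain ⟨q, hq, rfl⟩ := E.exists_f hgH
  refine ⟨q, ⟨hq, E.comm_of_f hq pn_facts.1 (mul_inv_eq_iff_eq_mul.1 hn'), ?_⟩, rfl⟩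
  have hsq : Perm.sign (q * pt * q⁻¹) = 1 := by rw [map_mul, map_mul, Perm.sign_inv, hq, sT]; rfl
  rcases hgt with h | h <;> rw [← E.f_conj hq sT] at h
  · exact Or.inl (E.f_inj hsq sT h)
  · exact Or.inr (E.f_inj hsq sX h)

/-- The Sylow subgroup of order sixty-four. -/
noncomputable def sylow64 [Finite G] : Sylow 2 G :=
  haveI : Fact (Nat.Prime 2) := ⟨Nat.prime_two⟩
  { toSubgroup := E.S64
    isPGroup' := E.S64_isPGroup
    is_maximal' := fun hQ hle => eq_of_self_normalizing hQ hle fun _ _ hn => E.S64_self_norm hn }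

include E in
theorem two_part [Finite G] {k : ℕ} (h : 2 ^ k ∣ Nat.card G) : k ≤ 6 := by
  haveI : Fact (Nat.Prime 2) := ⟨Nat.prime_two⟩
  have h1 := E.sylow64.card_eq_multiplicity
  rw [show Nat.card (E.sylow64 : Subgroup G) = 2 ^ 6 from E.card_S64.trans (by norm_num)] at h1
  have h2 := Nat.pow_right_injective le_rfl h1
  rw [h2]
  exact (Nat.prime_two.pow_dvd_iff_le_factorization Nat.card_pos.ne').1 h

theorem ctrl_four [Finite G] {p : P8} (hs : Perm.sign p = 1) (h2 : p * p = 1) (h1 : p ≠ 1)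
    (h4 : FourPts p) : E.Ctrl (E.f p) := by
  obtain ⟨h, hh, he⟩ := (E.conj_type hs h2 h1).1 h4
  exact he ▸ E.ctrl_conj E.ctrl_t hh

theorem ctrl_py [Finite G] : E.Ctrl (E.f py) := by
  obtain ⟨hs, he, -⟩ := py_facts
  rw [← he, E.f_conj hs (InK_basic.1.mul InK_basic.2.1).2, E.f_mul InK_basic.1.2 InK_basic.2.1.2,
    E.f_ι InK_basic.1, E.f_ι InK_basic.2.1]
  exact E.ctrl_conj E.ctrl_zw (E.f_mem ph)

theorem odd_trivial_pn [Finite G] (O : Subgroup G) (hO : Odd (Nat.card O))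
    (hOn : ∀ p ∈ O, Commute p (E.f pn))
    (hnorm : ∀ g, Commute g (E.f pn) → ∀ p ∈ O, g * p * g⁻¹ ∈ O) : ∀ p ∈ O, p = 1 := by
  have sT := InK_basic.2.2.1.2
  have sV := InK_basic.2.2.2.1.2
  have sN := pn_facts.1
  have sTV : Perm.sign (pt * pv) = 1 := X_facts.2.2.2.2.2.2.2.2.2.2
  have hfree : ∀ u, (u = pt ∨ u = pv ∨ u = pt * pv) → ∀ p ∈ O, Commute p (E.f u) → p = 1 := by
    intro u hu p hp hc
    have hus : Perm.sign u = 1 ∧ u * u = 1 ∧ u ≠ 1 ∧ FourPts u := by
      rcases hu with rfl | rfl | rfl <;> decide +kernel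
    obtain ⟨q, hq, hqe⟩ := E.exists_f (E.ctrl_four hus.1 hus.2.1 hus.2.2.1 hus.2.2.2 p hc)
    have hqu := E.comm_of_f hq hus.1 (hqe ▸ hc)
    have hqn := E.comm_of_f hq sN (hqe ▸ hOn p hp)
    obtain ⟨a, b, rfl⟩ := C_V_moved hu hqu
    have h8 : p ^ 8 = 1 := by rw [← hqe, ← E.f_pow hq, C_pn_exp a b hqn, E.f_one]
    have hodd : Odd (orderOf p) := hO.of_dvd_nat (by
      have := orderOf_dvd_natCard (⟨p, hp⟩ : O)
      rwa [Subgroup.orderOf_mk] at this)
    have h := Nat.dvd_gcd (dvd_refl (orderOf p)) (orderOf_dvd_of_pow_eq_one h8)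
    have hcop : Nat.Coprime (orderOf p) 8 := by
      rw [show 8 = 2 ^ 3 from rfl]
      exact Nat.Coprime.pow_right 3 hodd.coprime_two_right
    rw [hcop] at h
    exact orderOf_eq_one_iff.1 (Nat.dvd_one.1 h)
  have hT : Commute (E.f pt) (E.f pn) := E.f_comm sT sN pn_facts.2.2.2.2.2.2.2.2.2.2.1
  have hV : Commute (E.f pv) (E.f pn) := E.f_comm sV sN pn_facts.2.2.2.2.2.2.2.2.2.2.2.1
  have iT := inverts_of_fixedPointFree O (E.f_sq sT rep_facts.1) (hnorm _ hT) (hfree pt (Or.inl rfl))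
  have iV := inverts_of_fixedPointFree O (E.f_sq sV (by decide +kernel)) (hnorm _ hV)
    (hfree pv (Or.inr (Or.inl rfl)))
  intro p hp
  refine hfree (pt * pv) (Or.inr (Or.inr rfl)) p hp (mul_inv_eq_iff_eq_mul.1 ?_).symm
  rw [E.f_mul sT sV]
  calc E.f pt * E.f pv * p * (E.f pt * E.f pv)⁻¹
      = E.f pt * (E.f pv * p * (E.f pv)⁻¹) * (E.f pt)⁻¹ := by group
    _ = p := by rw [iV p hp, iT _ (inv_mem hp), inv_inv]

theorem ctrl_n [Finite G] : E.Ctrl (E.f pn) := by
  haveI : Fact (Nat.Prime 2) := ⟨Nat.prime_two⟩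
  set n := E.f pn with hndef
  set C := (Subgroup.centralizer {n} : Subgroup G) with hCdef
  obtain ⟨sN, hn2', hn1', -⟩ := pn_facts
  have hCmem : ∀ {x : G}, x ∈ C ↔ Commute x n := fun {x} => Subgroup.mem_centralizer_singleton_iff
  have hn2 : n * n = 1 := E.f_sq sN hn2'
  have hn1 : n ≠ 1 := E.f_ne_one sN hn1'
  set nc : C := ⟨n, hCmem.2 (Commute.refl n)⟩ with hnc
  set K := Subgroup.zpowers nc with hKdef
  have hKcard : Nat.card K = 2 := by
    rw [hKdef, Nat.card_zpowers, hnc, Subgroup.orderOf_mk]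
    exact orderOf_eq_prime (by rw [sq, hn2]) hn1
  haveI : K.Normal := ⟨fun x hx g => by
    have hc : Commute g nc := Subtype.ext (hCmem.1 g.2).eq
    obtain ⟨m, rfl⟩ := Subgroup.mem_zpowers_iff.1 hx
    rw [(hc.zpow_right m).eq, mul_inv_cancel_right]
    exact Subgroup.zpow_mem_zpowers _ _⟩
  have hKmem : ∀ {x : C}, x ∈ K → x = 1 ∨ x = nc := by
    intro x hx
    obtain ⟨m, rfl⟩ := Subgroup.mem_zpowers_iff.1 hx
    have h2 : nc ^ (2 : ℤ) = 1 := by
      rw [zpow_two]; exact Subtype.ext hn2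
    rcases Int.even_or_odd m with ⟨j, rfl⟩ | ⟨j, rfl⟩
    · left; rw [← two_mul, zpow_mul, h2, one_zpow]
    · right; rw [zpow_add, zpow_mul, h2, one_zpow, one_mul, zpow_one]
  -- the part inside the image
  obtain ⟨hsh, hconj, hyn, hsy, hy3, hy1, hny3, hform⟩ := py_facts
  have hy3' : E.f py ^ 3 = 1 := by rw [← E.f_pow hsy, hy3, E.f_one]
  have hoy : orderOf (E.f py) = 3 := orderOf_eq_prime hy3' (E.f_ne_one hsy hy1)
  have hdvd : 192 ∣ Nat.card (C ⊓ E.H : Subgroup G) := by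
    refine Nat.Coprime.mul_dvd_of_dvd_of_dvd (m := 64) (n := 3) (by norm_num) ?_ ?_
    · rw [← E.card_S64]
      refine Subgroup.card_dvd_of_le fun x hx => ⟨hCmem.2 ?_, E.S64_le hx⟩
      obtain ⟨p, hp, rfl⟩ := hx
      exact E.f_comm hp.1 sN hp.2.1
    · have h := orderOf_dvd_natCard (⟨E.f py, hCmem.2 (E.f_comm hsy sN hyn), E.f_mem py⟩ : (C ⊓ E.H : Subgroup G))
      rw [← Subgroup.orderOf_coe] at h
      exact hoy ▸ h
  have hCdvd : 192 ∣ Nat.card C := hdvd.trans (Subgroup.card_dvd_of_le inf_le_left)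
  have hcardC : Nat.card C = Nat.card (C ⧸ K) * 2 := by
    rw [← hKcard]; exact Subgroup.card_eq_card_quotient_mul_card_subgroup K
  suffices Nat.card (C ⧸ K) ≤ 96 by
    intro x hx
    have heq : (C ⊓ E.H : Subgroup G) = C := Subgroup.eq_of_le_of_card_ge inf_le_left (by
      have := Nat.le_of_dvd Nat.card_pos hdvd
      omega)
    have hxC : x ∈ C := hCmem.2 hx
    rw [← heq] at hxC
    exact hxC.2
  -- no odd normal subgroups
  have hcore : ∀ M : Subgroup (C ⧸ K), M.Normal → Odd (Nat.card M) → M = ⊥ := by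
    intro M hM hModd
    obtain ⟨O, hOn, hOodd, hMO⟩ := exists_odd_lift K hKcard M hModd
    have hO1 : ∀ p ∈ O.map C.subtype, p = 1 := by
      refine E.odd_trivial_pn _ ?_ ?_ ?_
      · rwa [Subgroup.card_map_of_injective (Subgroup.subtype_injective _)]
      · rintro _ ⟨p, -, rfl⟩
        exact hCmem.1 p.2
      · rintro g hg _ ⟨p, hp, rfl⟩
        exact ⟨⟨g, hCmem.2 hg⟩ * p * ⟨g, hCmem.2 hg⟩⁻¹, hOn.conj_mem _ hp _, rfl⟩
    rw [eq_bot_iff]
    intro y hy
    obtain ⟨o, ho, rfl⟩ := hMO hy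
    rw [show o = 1 from Subtype.ext (hO1 _ ⟨o, ho, rfl⟩), map_one]
    exact one_mem _
  -- the element of order three
  set yc : C := ⟨E.f py, hCmem.2 (E.f_comm hsy sN hyn)⟩ with hyc
  set yb := QuotientGroup.mk' K yc with hyb
  have hyK : yc ∉ K := fun h => by
    rcases hKmem h with h1 | h1
    · exact E.f_ne_one hsy hy1 (congrArg Subtype.val h1)
    · have h' : E.f py = n := congrArg Subtype.val h1
      rw [h', pow_succ, pow_two, hn2, one_mul] at hy3'
      exact hn1 hy3'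
  have hoyb : orderOf yb = 3 := by
    haveI : Fact (Nat.Prime 3) := ⟨Nat.prime_three⟩
    refine orderOf_eq_prime ?_ fun h => hyK ((QuotientGroup.eq_one_iff yc).1 h)
    rw [hyb, ← map_pow, show yc ^ 3 = 1 from Subtype.ext hy3', map_one]
  have hXC : Subgroup.centralizer (Subgroup.zpowers yb : Set (C ⧸ K)) = Subgroup.zpowers yb := by
    refine le_antisymm (fun q hq => ?_) (fun q hq => ?_)
    · obtain ⟨g, rfl⟩ := QuotientGroup.mk'_surjective K q
      have hc := Subgroup.mem_centralizer_iff.1 hq yb (Subgroup.mem_zpowers yb)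
      rw [hyb, ← map_mul, ← map_mul] at hc
      have hcc : Commute (g : G) (E.f py) := by
        rcases hKmem (QuotientGroup.eq.1 hc) with h | h
        · exact (congrArg Subtype.val (inv_mul_eq_one.1 h)).symm
        · exfalso
          have h' : (g : G) * E.f py = E.f py * g * n := congrArg Subtype.val (eq_mul_of_inv_mul_eq h)
          have hgn : Commute (g : G) n := hCmem.1 g.2
          have e : (g : G) * E.f py * (g : G)⁻¹ = E.f (py * pn) := by
            rw [E.f_mul hsy sN, h', mul_assoc _ (g : G) n, hgn.eq, mul_assoc, mul_assoc,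
              mul_inv_cancel, mul_one]
          have h3 : E.f ((py * pn) ^ 3) = 1 := by
            rw [E.f_pow (by rw [map_mul, hsy, sN, one_mul]), ← e, conj_pow, hy3', mul_one,
              mul_inv_cancel]
          refine hny3 ?_
          rw [show pn * py = py * pn from hyn.symm]
          exact E.f_inj (by rw [map_pow, map_mul, hsy, sN, one_mul, one_pow]) (map_one _)
            (h3.trans E.f_one.symm)
      have hgz : Commute ((E.f ph)⁻¹ * g * E.f ph) (S.z * S.w) := by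
        have hzw : E.f py = E.f ph * (S.z * S.w) * (E.f ph)⁻¹ := by
          rw [← hconj, E.f_conj hsh (InK_basic.1.mul InK_basic.2.1).2,
            E.f_mul InK_basic.1.2 InK_basic.2.1.2, E.f_ι InK_basic.1, E.f_ι InK_basic.2.1]
        rw [hzw] at hcc
        show _ * _ = _ * _
        calc (E.f ph)⁻¹ * g * E.f ph * (S.z * S.w)
            = (E.f ph)⁻¹ * (g * (E.f ph * (S.z * S.w) * (E.f ph)⁻¹)) * E.f ph := by group
          _ = (E.f ph)⁻¹ * ((E.f ph * (S.z * S.w) * (E.f ph)⁻¹) * g) * E.f ph := by rw [hcc.eq]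
          _ = _ := by group
      obtain ⟨a, b, c, habc⟩ := E.cent_zw_form hgz
      have hse : Perm.sign (pC ^ a.val * pD ^ b.val * sig ^ c.val) = 1 :=
        (cent_diag_elts.2 (a, b, c)).1
      have hsf : Perm.sign (ph * (pC ^ a.val * pD ^ b.val * sig ^ c.val) * ph⁻¹) = 1 := by
        rw [map_mul, map_mul, Perm.sign_inv, hsh, hse]; rfl
      have hg : (g : G) = E.f (ph * (pC ^ a.val * pD ^ b.val * sig ^ c.val) * ph⁻¹) := by
        rw [E.f_conj hsh hse, ← habc]; group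
      obtain ⟨i, k, hik⟩ := hform a b c (E.comm_of_f hsf sN (hg ▸ hCmem.1 g.2))
      have hge : g = yc ^ i.val * nc ^ k.val := Subtype.ext (by
        rw [hg, hik, E.f_mul (by rw [map_pow, hsy, one_pow]) (by rw [map_pow, sN, one_pow]),
          E.f_pow hsy, E.f_pow sN]
        rfl)
      rw [hge, map_mul, map_pow, map_pow, ← hyb,
        show QuotientGroup.mk' K nc = 1 from (QuotientGroup.eq_one_iff nc).2 (Subgroup.mem_zpowers nc),
        one_pow, mul_one]
      exact pow_mem (Subgroup.mem_zpowers yb) _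
    · rw [Subgroup.mem_centralizer_iff]
      intro r hr
      obtain ⟨i, rfl⟩ := Subgroup.mem_zpowers_iff.1 hq
      obtain ⟨j, rfl⟩ := Subgroup.mem_zpowers_iff.1 hr
      exact (Commute.zpow_zpow_self yb j i).eq
  have hGdvd : Nat.card C ∣ Nat.card G := C.card_subgroup_dvd_card
  rcases Cfsg.Agent.S3331.result (Subgroup.zpowers yb) (by rw [Nat.card_zpowers, hoyb]) hXC with
    ⟨N, hN, hnil, hcop, hq⟩ | ⟨N, hN, -, hexp, ⟨e⟩⟩ | ⟨⟨e⟩⟩
  · -- a nilpotent normal subgroup
    have hprime : ∀ {q : ℕ}, q.Prime → q ∣ Nat.card N → q = 2 := by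
      intro q hq hqN
      by_contra hq2
      haveI := Fact.mk hq
      obtain ⟨P⟩ : Nonempty (Sylow q N) := inferInstance
      haveI hPn : (P : Subgroup N).Normal := inferInstance
      haveI : (P : Subgroup N).Characteristic := P.characteristic_of_normal hPn
      haveI := hN
      have hbot := hcore ((P : Subgroup N).map N.subtype) inferInstance (by
        rw [Subgroup.card_map_of_injective (Subgroup.subtype_injective _), P.card_eq_multiplicity]
        exact (hq.odd_of_ne_two hq2).pow)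
      have := P.dvd_card_of_dvd_card hqN
      rw [(Subgroup.map_eq_bot_iff_of_injective _ (Subgroup.subtype_injective _)).1 hbot,
        Subgroup.card_bot] at this
      exact hq.ne_one (Nat.dvd_one.1 this)
    have hN2 := Nat.eq_prime_pow_of_unique_prime_dvd Nat.card_pos.ne' hprime
    set k := (Nat.card N).primeFactorsList.length
    have hQ := Subgroup.card_eq_card_quotient_mul_card_subgroup N
    rcases hq with h3 | ⟨⟨e⟩⟩
    · rw [h3, hN2] at hQ
      have hk : k ≤ 5 := by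
        have := E.two_part (k := k + 1) (dvd_trans ⟨3, by rw [hcardC, hQ, pow_succ]; ring⟩ hGdvd)
        omega
      have : 2 ^ k ≤ 2 ^ 5 := Nat.pow_le_pow_right (by norm_num) hk
      omega
    · have h6 : Nat.card ((↥C ⧸ K) ⧸ N) = 6 := by
        rw [Nat.card_congr e.toEquiv, Nat.card_perm, Nat.card_fin]; rfl
      rw [h6, hN2] at hQ
      have hk : k ≤ 4 := by
        have := E.two_part (k := k + 2) (dvd_trans ⟨3, by rw [hcardC, hQ, pow_add]; ring⟩ hGdvd)
        omega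
      have : 2 ^ k ≤ 2 ^ 4 := Nat.pow_le_pow_right (by norm_num) hk
      omega
  · -- an elementary abelian normal subgroup
    exfalso
    haveI := hN
    have hN2 : IsPGroup 2 N := fun x => ⟨1, Subtype.ext (by simpa using hexp x x.2)⟩
    obtain ⟨k, hk⟩ := IsPGroup.iff_card.1 hN2
    have h60 : Nat.card ((C ⧸ K) ⧸ N) = 60 := by
      rw [Nat.card_congr e.toEquiv, nat_card_alternatingGroup, Nat.card_fin]; rfl
    have hQ := Subgroup.card_eq_card_quotient_mul_card_subgroup N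
    rw [h60, hk] at hQ
    have hk3 : k + 3 ≤ 6 :=
      E.two_part (dvd_trans ⟨15, by rw [hcardC, hQ, pow_add]; ring⟩ hGdvd)
    rw [hcardC, hQ] at hCdvd
    have hk8 : k = 3 := by
      have : k ≤ 3 := by omega
      interval_cases k <;> first | rfl | norm_num at hCdvd
    haveI : Fact (Nat.Prime 3) := ⟨Nat.prime_three⟩
    let φ : Subgroup.zpowers yb →* MulAut N :=
      (MulAut.conjNormal (H := N)).comp (Subgroup.zpowers yb).subtype
    letI : MulAction (Subgroup.zpowers yb) N := MulAction.compHom N φ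
    have hX3 : IsPGroup 3 (Subgroup.zpowers yb) :=
      IsPGroup.of_card (n := 1) (by rw [Nat.card_zpowers, hoyb, pow_one])
    have hmod := hX3.card_modEq_card_fixedPoints N
    have hfix : Nat.card (MulAction.fixedPoints (Subgroup.zpowers yb) N) = 1 := by
      rw [Nat.card_eq_one_iff_unique]
      refine ⟨⟨fun a b => ?_⟩, ⟨⟨1, fun r => map_one (φ r)⟩⟩⟩
      have hone : ∀ a : MulAction.fixedPoints (Subgroup.zpowers yb) N, (a : N) = 1 := by
        intro a
        have ha := a.2 ⟨yb, Subgroup.mem_zpowers yb⟩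
        have ha' : yb * ((a : N) : C ⧸ K) * yb⁻¹ = ((a : N) : C ⧸ K) := congrArg Subtype.val ha
        have hc : ((a : N) : C ⧸ K) ∈ Subgroup.centralizer (Subgroup.zpowers yb : Set (C ⧸ K)) := by
          rw [Subgroup.mem_centralizer_iff]
          intro r hr
          obtain ⟨i, rfl⟩ := Subgroup.mem_zpowers_iff.1 hr
          exact ((show Commute yb ((a : N) : C ⧸ K) from mul_inv_eq_iff_eq_mul.1 ha').zpow_left i).eq
        rw [hXC] at hc
        have h1 : orderOf ((a : N) : C ⧸ K) ∣ 3 := hoyb ▸ orderOf_dvd_of_mem_zpowers hc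
        have h2 : orderOf ((a : N) : C ⧸ K) ∣ 2 := orderOf_dvd_of_pow_eq_one (hexp _ (a : N).2)
        exact Subtype.ext (orderOf_eq_one_iff.1 (Nat.dvd_one.1 (Nat.dvd_gcd h1 h2 : _ ∣ Nat.gcd 3 2)))
      exact Subtype.ext ((hone a).trans (hone b).symm)
    rw [hfix, hk, hk8] at hmod
    exact absurd hmod (by decide)
  · exfalso
    have h168 : Nat.card (Matrix.ProjectiveSpecialLinearGroup (Fin 2) (ZMod 7)) = 168 := by
      haveI : Fact (Nat.Prime 7) := ⟨by norm_num⟩
      rw [Cfsg.Agent.H6.card_psl2 (F := ZMod 7) (ZMod.card 7)]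
      rfl
    rw [hcardC, Nat.card_congr e.toEquiv, h168] at hCdvd
    norm_num at hCdvd

end Ext

end Sys

end Cfsg.Agent.H17.AltEight
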