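import Cfsg.Agent.H17.AltEight.Final

/-!
A system of glued local embeddings forces the alternating group of degree eight.
-/

set_option autoImplicit false
set_option maxHeartbeats 1000000
set_option maxRecDepth 8000

namespace Cfsg.Agent.H17.AltEight

open Equiv

theorem swap_D : ∀ b : Fin 3, sig * pD ^ b.val * sig = pC ^ b.val := by decide +kernel

theorem flip_InK {p : P8} (hp : InK p) : InK (flip67 * p * flip67) := by
  have hf : ∀ i : Fin 8, (flip67 i).val < 3 ↔ i.val < 3 := by decide +kernel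
  refine ⟨fun i => ((hf _).trans (hp.1 _)).trans (hf i), ?_⟩
  rw [map_mul, map_mul, hp.2, mul_one, ← map_mul, show flip67 * flip67 = 1 by decide +kernel,
    map_one]

theorem flip_facts : flip67 * flip67 = 1 ∧ flip67 * sig = sig * flip67 ∧
    flip67 * pD * flip67 = pD ∧ flip67 * x7 * flip67 = x6 ∧
    ∀ (i j : Fin 3) (k l : Fin 2),
      flip67 * (pC ^ i.val * pD ^ j.val * a1 ^ k.val * a2 ^ l.val) * flip67 =
        pC ^ i.val * pD ^ j.val * a1 ^ k.val * a2 ^ l.val := by
  decide +kernel

theorem flip_InK' {p : P8} (hp : InK' p) : InK' (flip67 * p * flip67) := by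
  have h := flip_InK hp
  unfold InK'
  have e : flip67 * (sig * p * sig) * flip67 = sig * (flip67 * p * flip67) * sig := by
    calc flip67 * (sig * p * sig) * flip67 = (flip67 * sig) * p * (sig * flip67) := by group
      _ = (sig * flip67) * p * (flip67 * sig) := by rw [flip_facts.2.1]
      _ = _ := by group
  rwa [e] at h

theorem flip_flip (p : P8) : flip67 * (flip67 * p * flip67) * flip67 = p := by
  calc flip67 * (flip67 * p * flip67) * flip67 = flip67 * flip67 * p * (flip67 * flip67) := by group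
    _ = p := by rw [flip_facts.1, one_mul, mul_one]

namespace Sys

variable {G : Type*} [Group G] (S : Sys G)

/-- The system obtained by exchanging the last two points in the second embedding. -/
def flip : Sys G where
  ι := S.ι
  j p := S.j (flip67 * p * flip67)
  ι_mul := S.ι_mul
  ι_inj := S.ι_inj
  ι_surj := S.ι_surj
  j_mul {p q} hp hq := by
    rw [← S.j_mul (flip_InK' hp) (flip_InK' hq)]
    congr 1
    calc flip67 * (p * q) * flip67 = flip67 * p * (flip67 * flip67) * q * flip67 := by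
          rw [flip_facts.1]; group
      _ = _ := by group
  j_inj {p q} hp hq h := by
    have h' := S.j_inj (flip_InK' hp) (flip_InK' hq) h
    rw [← flip_flip p, ← flip_flip q, h']
  j_surj g hg := by
    rw [flip_facts.2.2.1] at hg
    obtain ⟨p, hp, rfl⟩ := S.j_surj g hg
    exact ⟨flip67 * p * flip67, flip_InK' hp, by rw [flip_flip]⟩
  agree {p} hp hp' := by
    obtain ⟨a, b, rfl⟩ := exists_glue35 hp.1
    obtain ⟨i, j, k, l, h⟩ := J_form a b hp hp'
    rw [h] at hp hp' ⊢
    rw [flip_facts.2.2.2.2 i j k l]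
    exact S.agree hp hp'
  not27 := S.not27
  conj_a := S.conj_a
  cardY := S.cardY

include S in
theorem exists_good [Finite G] : ∃ T : Sys G, T.j x7 ∈ T.CV := by
  rcases S.X_cases with h | h
  · exact ⟨S, h⟩
  · refine ⟨S.flip, ?_⟩
    show S.j (flip67 * x7 * flip67) ∈ S.CV
    rw [flip_facts.2.2.2.1]
    exact h

namespace Ext

variable {S} (E : S.Ext)

theorem not_conj_n [Finite G] : ¬ IsConj (E.f pt) (E.f pn) := by
  intro hc
  obtain ⟨sN, hn2, hn1, hn4, -⟩ := pn_facts
  exact hn4 (E.fourPts_of_conj sN hn2 hn1 hc)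

theorem ctrl_invol [Finite G] {q : P8} (hs : Perm.sign q = 1) (h2 : q * q = 1) (h1 : q ≠ 1) :
    E.Ctrl (E.f q) := by
  by_cases h4 : FourPts q
  · exact E.ctrl_four hs h2 h1 h4
  · obtain ⟨sN, hn2, hn1, hn4, -⟩ := pn_facts
    obtain ⟨h, hh, he⟩ := (E.conj_type sN hn2 hn1).2 hn4
    obtain ⟨k, hk, hke⟩ := (E.conj_type hs h2 h1).2 h4
    rw [show E.f q = (k * h⁻¹) * E.f pn * (k * h⁻¹)⁻¹ by rw [← he, ← hke]; group]
    exact E.ctrl_conj E.ctrl_n (mul_mem hk (inv_mem hh))

theorem conj_n_mem [Finite G] (g : G) : g * E.f pn * g⁻¹ ∈ E.H := by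
  set t := E.f pt
  set u := g * E.f pn * g⁻¹ with hu
  have sT := InK_basic.2.2.1.2
  have ht2 : t * t = 1 := E.f_sq sT rep_facts.1
  have hu2 : u * u = 1 := by
    calc u * u = g * (E.f pn * E.f pn) * g⁻¹ := by rw [hu]; group
      _ = 1 := by rw [E.f_sq pn_facts.1 pn_facts.2.1]; group
  rcases Nat.even_or_odd (orderOf (t * u)) with he | ho
  · obtain ⟨hc2, hct, hcu⟩ := H28.central_involution_of_even ht2 hu2 he
    set c := (t * u) ^ (orderOf (t * u) / 2)
    obtain ⟨q, hq, hqe⟩ := E.exists_f (E.ctrl_t c hct)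
    have hq1 : q ≠ 1 := fun h => H28.ne_one_of_orderOf_two hc2 (by rw [← hqe, h, E.f_one])
    have hq2 : q * q = 1 := by
      refine E.f_inj (by rw [map_mul, hq, one_mul]) (map_one _) ?_
      rw [E.f_mul hq hq, hqe, E.f_one, H28.mul_self_of_orderOf_two hc2]
    exact E.ctrl_invol hq hq2 hq1 u (hqe ▸ hcu.symm)
  · obtain ⟨d, -, hd⟩ := H28.exists_conj_of_odd ht2 hu2 ho
    exact absurd ((isConj_iff.2 ⟨d, hd⟩).trans (isConj_iff.2 ⟨g, rfl⟩).symm) E.not_conj_n

theorem H_normal [Finite G] : E.H.Normal := by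
  set N := Subgroup.normalClosure ({E.f pn} : Set G)
  have hle : N ≤ E.H := by
    refine (Subgroup.closure_le _).2 fun x hx => ?_
    obtain ⟨a, ha, hax⟩ := Group.mem_conjugatesOfSet_iff.1 hx
    rw [Set.mem_singleton_iff] at ha
    subst ha
    obtain ⟨g, rfl⟩ := isConj_iff.1 hax
    exact E.conj_n_mem g
  have hne : N.comap E.Ψ ≠ ⊥ := by
    intro h
    have hm : alt (p := pn) pn_facts.1 ∈ N.comap E.Ψ := by
      rw [Subgroup.mem_comap, ← E.f_def pn_facts.1]
      exact Subgroup.subset_normalClosure rfl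
    rw [h, Subgroup.mem_bot] at hm
    exact pn_facts.2.2.1 (congrArg Subtype.val hm)
  haveI : IsSimpleGroup (alternatingGroup (Fin 8)) := alternatingGroup.isSimpleGroup (by simp)
  have htop := ((Subgroup.normalClosure_normal (s := ({E.f pn} : Set G))).comap E.Ψ
    |>.eq_bot_or_eq_top).resolve_left hne
  have : E.H ≤ N := by
    rintro _ ⟨x, rfl⟩
    exact Subgroup.mem_comap.1 (htop ▸ Subgroup.mem_top x)
  rw [show E.H = N from le_antisymm this hle]
  exact Subgroup.normalClosure_normal

theorem H_eq_top [Finite G] : E.H = ⊤ := by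
  haveI : Fact (Nat.Prime 3) := ⟨Nat.prime_three⟩
  haveI := E.H_normal
  have hDH : S.D ≤ E.H := by
    rw [Sys.D, Subgroup.closure_le]
    rintro x (rfl | rfl)
    · exact E.ι_mem InK_basic.1
    · exact E.ι_mem InK_basic.2.1
  have hDH' : (S.sylowD : Subgroup G) ≤ E.H := hDH
  have h := Sylow.normalizer_sup_eq_top (S.sylowD.subtype hDH')
  rw [Sylow.coe_subtype, Subgroup.map_subgroupOf_eq_of_le hDH'] at h
  have hN : Subgroup.normalizer ((S.sylowD : Subgroup G) : Set G) ≤ E.H := by
    intro g hg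
    have hz : g * S.z * g⁻¹ ∈ S.D := (Subgroup.mem_normalizer_iff.1 hg S.z).1 S.z_mem_D
    obtain ⟨a, b, hab⟩ := S.D_form_ι hz
    have hc := InK_basic.1
    have hd := InK_basic.2.1
    by_cases hb : b = 0
    · subst hb
      rw [Fin.val_zero, pow_zero, mul_one, S.ι_pow hc] at hab
      obtain ⟨p, hp, rfl⟩ := S.ι_surj g (hab ▸ pow_mem (Subgroup.mem_zpowers S.z) _)
      exact E.ι_mem hp
    by_cases ha : a = 0
    · subst ha
      rw [Fin.val_zero, pow_zero, one_mul] at hab
      set s := E.f sig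
      have hs : s * (g * S.z * g⁻¹) * s⁻¹ = S.ι (pC ^ b.val) := by
        rw [hab, ← E.f_ι (hd.pow _), ← E.f_conj cv_sign.1 (hd.pow _).2, sig_inv, swap_D,
          E.f_ι (hc.pow _)]
      obtain ⟨p, hp, hpe⟩ := S.ι_surj (s * g) (by
        show s * g * S.z * (s * g)⁻¹ ∈ Subgroup.zpowers S.z
        rw [show s * g * S.z * (s * g)⁻¹ = s * (g * S.z * g⁻¹) * s⁻¹ by group, hs, S.ι_pow hc]
        exact pow_mem (Subgroup.mem_zpowers S.z) _)
      have := mul_mem (inv_mem (E.f_mem sig)) (hpe ▸ E.ι_mem hp)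
      rwa [show s⁻¹ * (s * g) = g by group] at this
    exfalso
    have h18 := S.card_cent_diag a b ha hb
    rw [← hab] at h18
    have h5 := S.card_cent_z
    have e : Nat.card (Subgroup.centralizer {g * S.z * g⁻¹} : Subgroup G) =
        Nat.card (Subgroup.centralizer {S.z} : Subgroup G) := by
      refine Nat.card_congr
        { toFun := fun x => ⟨g⁻¹ * x.1 * g, ?_⟩
          invFun := fun x => ⟨g * x.1 * g⁻¹, ?_⟩
          left_inv := fun x => Subtype.ext (by group)
          right_inv := fun x => Subtype.ext (by group) }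
      · have hx := Subgroup.mem_centralizer_singleton_iff.1 x.2
        rw [Subgroup.mem_centralizer_singleton_iff]
        calc _ = g⁻¹ * ((x : G) * (g * S.z * g⁻¹)) * g := by group
          _ = _ := by rw [hx]; group
      · have hx := Subgroup.mem_centralizer_singleton_iff.1 x.2
        rw [Subgroup.mem_centralizer_singleton_iff]
        calc _ = g * ((x : G) * S.z) * g⁻¹ := by group
          _ = _ := by rw [hx]; group
    rw [← e, h18] at h5
    norm_num at h5
  exact top_le_iff.1 (h ▸ sup_le hN le_rfl)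

end Ext

include S in
theorem equiv_alt8 [Finite G] : Nonempty (G ≃* alternatingGroup (Fin 8)) := by
  obtain ⟨T, hT⟩ := S.exists_good
  obtain ⟨E⟩ := T.exists_ext hT
  have hs : Function.Surjective E.Ψ := MonoidHom.range_eq_top.1 E.H_eq_top
  exact ⟨(MulEquiv.ofBijective E.Ψ ⟨E.inj, hs⟩).symm⟩

end Sys

end Cfsg.Agent.H17.AltEight
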