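import Cfsg.Agent.H17.AltEight.Main

/-!
The glued local embeddings are constructed from the three-local hypotheses.
-/

set_option autoImplicit false
set_option maxHeartbeats 1000000
set_option maxRecDepth 8000
set_option synthInstance.maxSize 4096

namespace Cfsg.Agent.H17.AltEight

open Equiv

/-- The index-two subgroup of the product of two symmetric groups. -/
abbrev Lg : Subgroup (Perm (Fin 3) × Perm (Fin 5)) :=
  (((Perm.sign).comp (MonoidHom.fst (Perm (Fin 3)) (Perm (Fin 5)))) *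
    ((Perm.sign).comp (MonoidHom.snd (Perm (Fin 3)) (Perm (Fin 5))))).ker

theorem mem_Lg {a : Perm (Fin 3)} {b : Perm (Fin 5)} :
    (a, b) ∈ Lg ↔ Perm.sign a * Perm.sign b = 1 := Iff.rfl

theorem glue35_InK {a : Perm (Fin 3)} {b : Perm (Fin 5)} :
    InK (glue35 a b) ↔ Perm.sign a * Perm.sign b = 1 := by
  refine ⟨fun h => by rw [← sign_glue35]; exact h.2, fun h => ⟨?_, by rw [sign_glue35]; exact h⟩⟩
  have hl : ∀ x : Fin 3 ⊕ Fin 5, ((finSumFinEquiv x).val < 3 ↔ x.isLeft = true) := by decide +kernel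
  intro i
  obtain ⟨x, rfl⟩ := (finSumFinEquiv (m := 3) (n := 5)).surjective i
  rw [hl, show glue35 a b (finSumFinEquiv x) = finSumFinEquiv (Perm.sumCongr a b x) by
    simp [glue35, Equiv.permCongr_apply], hl]
  cases x <;> simp

theorem five_cycle_norm : ∀ b : Perm (Fin 5), b ^ 3 = 1 →
    (H62.cyc3 0 1 2 * H62.cyc3 2 3 4 * b * (H62.cyc3 0 1 2 * H62.cyc3 2 3 4)⁻¹ = b ∨
      H62.cyc3 0 1 2 * H62.cyc3 2 3 4 * b * (H62.cyc3 0 1 2 * H62.cyc3 2 3 4)⁻¹ = b⁻¹) → b = 1 := by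
  decide +kernel

theorem c5_sign : Perm.sign (H62.cyc3 (0 : Fin 5) 1 2 * H62.cyc3 2 3 4) = 1 := by decide +kernel

theorem three_elts3 : ∀ a : Perm (Fin 3), a ^ 3 = 1 →
    glue35 a 1 = pC ^ 0 ∨ glue35 a 1 = pC ^ 1 ∨ glue35 a 1 = pC ^ 2 := by
  decide +kernel

theorem three_elts5 : ∀ b : Perm (Fin 5), b ^ 3 = 1 → b ≠ 1 →
    ∃ β : Perm (Fin 5), Perm.sign β = 1 ∧ β * H62.cyc3 0 1 2 * β⁻¹ = b := by
  decide +kernel

theorem base_conj : ∀ β : Perm (Fin 5), Perm.sign β = 1 →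
    glue35 1 β * pC * (glue35 1 β)⁻¹ = pC ∧
      glue35 1 β * pD * (glue35 1 β)⁻¹ = glue35 1 (β * H62.cyc3 0 1 2 * β⁻¹) := by
  decide +kernel

theorem mem_norm_zpowers {G : Type*} [Group G] [Finite G] {g a : G}
    (h : g * a * g⁻¹ ∈ Subgroup.zpowers a) :
    g ∈ Subgroup.normalizer (Subgroup.zpowers a : Set G) := by
  have hmap : (Subgroup.zpowers a).map (MulAut.conj g).toMonoidHom = Subgroup.zpowers a := by
    refine Subgroup.eq_of_le_of_card_ge ?_ ?_
    · rw [Subgroup.map_le_iff_le_comap, Subgroup.zpowers_le]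
      exact h
    · rw [Subgroup.card_map_of_injective (MulAut.conj g).injective]
  rw [Subgroup.mem_normalizer_iff]
  intro x
  constructor
  · intro hx
    have : (MulAut.conj g).toMonoidHom x ∈ (Subgroup.zpowers a).map (MulAut.conj g).toMonoidHom :=
      ⟨x, hx, rfl⟩
    rwa [hmap] at this
  · intro hx
    rw [← hmap] at hx
    obtain ⟨y, hy, hye⟩ := hx
    have : y = x := (MulAut.conj g).injective hye
    exact this ▸ hy

/-- The first embedding together with the shape of `D`. -/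
theorem exists_first {G : Type*} [Group G] [Finite G] (D : Subgroup G) (y z : G)
    (hgen : Subgroup.closure {y, z} = D) (hcomm : IsMulCommutative D) (hcard : Nat.card D = 9)
    (hexp : ∀ a ∈ D, a ^ 3 = 1)
    (eL : Subgroup.normalizer (Subgroup.zpowers z : Set G) ≃* Lg) :
    ∃ ι : P8 → G, (∀ {p q : P8}, InK p → InK q → ι (p * q) = ι p * ι q) ∧
      (∀ {p q : P8}, InK p → InK q → ι p = ι q → p = q) ∧
      (∀ g : G, g * ι pC * g⁻¹ ∈ Subgroup.zpowers (ι pC) → ∃ p, InK p ∧ ι p = g) ∧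
      Subgroup.closure {ι pC, ι pD} = D ∧ ∃ i : Fin 3, ∃ j : Fin 3, y = ι (pC ^ i.val * pD ^ j.val) ∧
        Subgroup.zpowers (ι pC) = Subgroup.zpowers z := by
  classical
  have hzD : z ∈ D := hgen ▸ Subgroup.subset_closure (by simp)
  have hyD : y ∈ D := hgen ▸ Subgroup.subset_closure (by simp)
  have hno3 : ∀ a : G, a ^ 3 = 1 → D ≤ Subgroup.zpowers a → False := by
    intro a ha hle
    have h1 := Nat.le_of_dvd Nat.card_pos (Subgroup.card_dvd_of_le hle)
    rw [hcard, Nat.card_zpowers] at h1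
    have h2 := Nat.le_of_dvd (by norm_num) (orderOf_dvd_of_pow_eq_one ha)
    omega
  have hz1 : z ≠ 1 := fun h => hno3 y (hexp y hyD) (by
    rw [← hgen, Subgroup.closure_le]
    rintro x (rfl | rfl)
    · exact Subgroup.mem_zpowers _
    · rw [SetLike.mem_coe, h]; exact one_mem _)
  have hz3 : z ^ 3 = 1 := hexp z hzD
  haveI : Fact (Nat.Prime 3) := ⟨Nat.prime_three⟩
  have hoz : orderOf z = 3 := orderOf_eq_prime hz3 hz1
  have hzN : z ∈ Subgroup.normalizer (Subgroup.zpowers z : Set G) := mem_norm_zpowers (by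
    rw [mul_inv_cancel_right]; exact Subgroup.mem_zpowers z)
  let f : P8 → G := fun p => if h : ∃ x : Lg, glue35Hom x.1 = p then (eL.symm h.choose : G) else 1
  have hf : ∀ x : Lg, f (glue35Hom x.1) = (eL.symm x : G) := by
    intro x
    have h : ∃ x' : Lg, glue35Hom x'.1 = glue35Hom x.1 := ⟨x, rfl⟩
    have he : h.choose = x := Subtype.ext (glue35Hom_injective h.choose_spec)
    simp only [f, dif_pos h, he]
  have hpre : ∀ {p : P8}, InK p → ∃ x : Lg, glue35Hom x.1 = p := by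
    intro p hp
    obtain ⟨a, b, rfl⟩ := exists_glue35 hp.1
    exact ⟨⟨(a, b), mem_Lg.2 (glue35_InK.1 hp)⟩, rfl⟩
  have himg : ∀ x : Lg, InK (glue35Hom x.1) := fun x => glue35_InK.2 (mem_Lg.1 x.2)
  have fmul : ∀ {p q : P8}, InK p → InK q → f (p * q) = f p * f q := by
    intro p q hp hq
    obtain ⟨u, rfl⟩ := hpre hp
    obtain ⟨v, rfl⟩ := hpre hq
    rw [← map_mul, ← Subgroup.coe_mul, hf, hf, hf, map_mul, Subgroup.coe_mul]
  have finj : ∀ {p q : P8}, InK p → InK q → f p = f q → p = q := by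
    intro p q hp hq h
    obtain ⟨u, rfl⟩ := hpre hp
    obtain ⟨v, rfl⟩ := hpre hq
    rw [hf, hf] at h
    rw [eL.symm.injective (Subtype.ext h)]
  -- the image of `z`
  set x := eL ⟨z, hzN⟩ with hx
  have hx3 : x ^ 3 = 1 := by
    rw [hx, ← map_pow, show (⟨z, hzN⟩ : Subgroup.normalizer (Subgroup.zpowers z : Set G)) ^ 3 = 1
      from Subtype.ext hz3, map_one]
  have hx1 : x ≠ 1 := fun h => hz1 (congrArg Subtype.val (eL.injective (h.trans (map_one eL).symm)))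
  have hxa : (x : Perm (Fin 3) × Perm (Fin 5)).1 ^ 3 = 1 := congrArg Prod.fst (congrArg Subtype.val hx3)
  have hxb : (x : Perm (Fin 3) × Perm (Fin 5)).2 ^ 3 = 1 := congrArg Prod.snd (congrArg Subtype.val hx3)
  have hx2 : (x : Perm (Fin 3) × Perm (Fin 5)).2 = 1 := by
    refine five_cycle_norm _ hxb ?_
    set l : Lg := ⟨(1, H62.cyc3 0 1 2 * H62.cyc3 2 3 4), mem_Lg.2 (by rw [map_one, c5_sign, one_mul])⟩
    have hm : (eL.symm l : G) * z * (eL.symm l : G)⁻¹ ∈ Subgroup.zpowers z :=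
      (Subgroup.mem_normalizer_iff.1 (eL.symm l).2 z).1 (Subgroup.mem_zpowers z)
    obtain ⟨k, hk⟩ := Subgroup.mem_zpowers_iff.1 hm
    have hlk : l * x * l⁻¹ = x ^ k := by
      have : eL.symm l * ⟨z, hzN⟩ * (eL.symm l)⁻¹ = ⟨z, hzN⟩ ^ k := Subtype.ext hk.symm
      have h := congrArg eL this
      rwa [map_mul, map_mul, map_inv, map_zpow, MulEquiv.apply_symm_apply, ← hx] at h
    have hox : orderOf x = 3 := orderOf_eq_prime hx3 hx1
    rw [← zpow_mod_orderOf, hox] at hlk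
    have hk3 : k % (3 : ℤ) = 0 ∨ k % (3 : ℤ) = 1 ∨ k % (3 : ℤ) = 2 := by omega
    push_cast at hlk
    rcases hk3 with h | h | h <;> rw [h] at hlk
    · exfalso
      apply hx1
      rw [zpow_zero, mul_inv_eq_one, mul_eq_left] at hlk
      exact hlk
    · left
      rw [zpow_one] at hlk
      exact congrArg Prod.snd (congrArg Subtype.val hlk)
    · right
      have e : x ^ (2 : ℤ) = x⁻¹ := by
        refine eq_inv_of_mul_eq_one_left ?_
        rw [show (2 : ℤ) = ((2 : ℕ) : ℤ) from rfl, zpow_natCast, ← pow_succ, hx3]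
      rw [e] at hlk
      exact congrArg Prod.snd (congrArg Subtype.val hlk)
  obtain ⟨hc, hd, -⟩ := InK_basic
  have hzf : z = f (glue35Hom x.1) := by rw [hf, hx, MulEquiv.symm_apply_apply]
  have fone : f 1 = 1 := by
    have h := fmul InK.one InK.one
    rw [one_mul] at h
    exact mul_eq_left.1 h.symm
  have fpow : ∀ {p : P8}, InK p → ∀ n : ℕ, f (p ^ n) = f p ^ n := by
    intro p hp n
    induction n with
    | zero => rw [pow_zero, pow_zero, fone]
    | succ n ih => rw [pow_succ, pow_succ, fmul (hp.pow n) hp, ih]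
  have hzz : Subgroup.zpowers (f pC) = Subgroup.zpowers z := by
    have hg : glue35Hom x.1 = glue35 (x : Perm (Fin 3) × Perm (Fin 5)).1 1 := by
      rw [← glue35Hom_apply]; exact congrArg glue35Hom (Prod.ext rfl hx2)
    have hc3 : pC ^ 3 = 1 := by decide +kernel
    have h3 : f pC ^ 3 = 1 := by rw [← fpow hc, hc3, fone]
    have he : z ∈ Subgroup.zpowers (f pC) := by
      rw [hzf, hg]
      rcases three_elts3 _ hxa with h | h | h <;> rw [h, fpow hc] <;>
        exact pow_mem (Subgroup.mem_zpowers _) _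
    refine (Subgroup.eq_of_le_of_card_ge (Subgroup.zpowers_le.2 he) ?_).symm
    rw [Nat.card_zpowers, Nat.card_zpowers, hoz]
    exact Nat.le_of_dvd (by norm_num) (orderOf_dvd_of_pow_eq_one h3)
  -- the image of `y`
  have hyz : y * z = z * y :=
    congrArg Subtype.val (hcomm.is_comm.comm ⟨y, hyD⟩ ⟨z, hzD⟩)
  have hyN : y ∈ Subgroup.normalizer (Subgroup.zpowers z : Set G) := mem_norm_zpowers (by
    rw [hyz, mul_inv_cancel_right]; exact Subgroup.mem_zpowers z)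
  set u := eL ⟨y, hyN⟩ with hu
  have hu3 : u ^ 3 = 1 := by
    rw [hu, ← map_pow, show (⟨y, hyN⟩ : Subgroup.normalizer (Subgroup.zpowers z : Set G)) ^ 3 = 1
      from Subtype.ext (hexp y hyD), map_one]
  have hua : (u : Perm (Fin 3) × Perm (Fin 5)).1 ^ 3 = 1 := congrArg Prod.fst (congrArg Subtype.val hu3)
  have hub : (u : Perm (Fin 3) × Perm (Fin 5)).2 ^ 3 = 1 := congrArg Prod.snd (congrArg Subtype.val hu3)
  have hyf : y = f (glue35Hom u.1) := by rw [hf, hu, MulEquiv.symm_apply_apply]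
  have hu2 : (u : Perm (Fin 3) × Perm (Fin 5)).2 ≠ 1 := by
    intro h
    apply hno3 z hz3
    rw [← hgen, Subgroup.closure_le]
    rintro r (rfl | rfl)
    · have hg : glue35Hom u.1 = glue35 (u : Perm (Fin 3) × Perm (Fin 5)).1 1 := by
        rw [← glue35Hom_apply]; exact congrArg glue35Hom (Prod.ext rfl h)
      rw [SetLike.mem_coe, ← hzz, hyf, hg]
      rcases three_elts3 _ hua with h' | h' | h' <;> rw [h', fpow hc] <;>
        exact pow_mem (Subgroup.mem_zpowers _) _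
    · exact Subgroup.mem_zpowers _
  obtain ⟨β, hβ, hβe⟩ := three_elts5 _ hub hu2
  have hg0 : InK (glue35 1 β) := glue35_InK.2 (by rw [map_one, hβ, one_mul])
  obtain ⟨eC, eD⟩ := base_conj β hβ
  rw [hβe] at eD
  let ι : P8 → G := fun p => f (glue35 1 β * p * (glue35 1 β)⁻¹)
  have hιC : ι pC = f pC := congrArg f eC
  refine ⟨ι, ?_, ?_, ?_, ?_, ?_⟩
  · intro p q hp hq
    show f _ = f _ * f _
    rw [← fmul ((hg0.mul hp).mul hg0.inv) ((hg0.mul hq).mul hg0.inv)]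
    refine congrArg f ?_
    group
  · intro p q hp hq h
    exact mul_left_cancel (mul_right_cancel (finj ((hg0.mul hp).mul hg0.inv) ((hg0.mul hq).mul hg0.inv) h))
  · intro g hg
    rw [hιC] at hg
    have hn := mem_norm_zpowers hg
    rw [hzz] at hn
    have hgf : g = f (glue35Hom (eL ⟨g, hn⟩).1) := by rw [hf, MulEquiv.symm_apply_apply]
    refine ⟨(glue35 1 β)⁻¹ * glue35Hom (eL ⟨g, hn⟩).1 * glue35 1 β,
      (hg0.inv.mul (himg _)).mul hg0, ?_⟩
    show f _ = g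
    rw [show glue35 1 β * ((glue35 1 β)⁻¹ * glue35Hom (eL ⟨g, hn⟩).1 * glue35 1 β) * (glue35 1 β)⁻¹ =
      glue35Hom (eL ⟨g, hn⟩).1 by group, ← hgf]
  all_goals
    have hι2 : ∀ i : ℕ, ι (pC ^ i * pD) = f (pC ^ i) * ι pD := by
      intro i
      show f _ = f _ * f _
      rw [← fmul (hc.pow i) ((hg0.mul hd).mul hg0.inv)]
      refine congrArg f ?_
      rw [show glue35 1 β * (pC ^ i * pD) * (glue35 1 β)⁻¹ =
        (glue35 1 β * pC * (glue35 1 β)⁻¹) ^ i * (glue35 1 β * pD * (glue35 1 β)⁻¹) by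
          rw [conj_pow]; group, eC]
    have hyi : ∃ i : Fin 3, y = f (pC ^ i.val) * ι pD := by
      have hg : glue35Hom u.1 = glue35 (u : Perm (Fin 3) × Perm (Fin 5)).1 1 *
          glue35 1 (u : Perm (Fin 3) × Perm (Fin 5)).2 := by
        rw [← glue35Hom_apply, ← glue35Hom_apply, ← map_mul, Prod.mk_mul_mk, mul_one, one_mul]
      have hW : ι pD = f (glue35 1 (u : Perm (Fin 3) × Perm (Fin 5)).2) := congrArg f eD
      have hb : InK (glue35 1 (u : Perm (Fin 3) × Perm (Fin 5)).2) := eD ▸ (hg0.mul hd).mul hg0.inv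
      rw [hW, hyf, hg]
      rcases three_elts3 _ hua with h | h | h <;> rw [h, fmul (hc.pow _) hb]
      · exact ⟨0, rfl⟩
      · exact ⟨1, rfl⟩
      · exact ⟨2, rfl⟩
  · obtain ⟨i, hi⟩ := hyi
    have hmem : ∀ k : ℕ, f (pC ^ k) ∈ Subgroup.zpowers z := fun k => by
      rw [fpow hc, ← hzz]; exact pow_mem (Subgroup.mem_zpowers _) _
    have hzle : Subgroup.zpowers z ≤ D := Subgroup.zpowers_le.2 hzD
    have hWD : ι pD ∈ D := by
      have : ι pD = (f (pC ^ i.val))⁻¹ * y := by rw [hi, inv_mul_cancel_left]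
      rw [this]
      exact mul_mem (inv_mem (hzle (hmem _))) hyD
    refine le_antisymm ?_ ?_
    · rw [Subgroup.closure_le]
      rintro r (rfl | rfl)
      · rw [SetLike.mem_coe, hιC]; exact hzle (hzz ▸ Subgroup.mem_zpowers _)
      · exact hWD
    · have hzc : Subgroup.zpowers z ≤ Subgroup.closure {ι pC, ι pD} := by
        rw [← hzz, Subgroup.zpowers_le, ← hιC]; exact Subgroup.subset_closure (by simp)
      rw [← hgen, Subgroup.closure_le]
      rintro r (rfl | rfl)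
      · rw [SetLike.mem_coe, hi]
        exact mul_mem (hzc (hmem _)) (Subgroup.subset_closure (by simp))
      · exact hzc (Subgroup.mem_zpowers _)
  · obtain ⟨i, hi⟩ := hyi
    exact ⟨i, 1, by rw [Fin.val_one, pow_one, hι2, hi], by rw [hιC, hzz]⟩

theorem J_norm : ∀ (i j : Fin 3) (k l : Fin 2),
    let p := pC ^ i.val * pD ^ j.val * a1 ^ k.val * a2 ^ l.val
    InK p ∧ InK' p ∧ (p * pC * p⁻¹ = pC ∨ p * pC * p⁻¹ = pC ^ 2) ∧
      (p * pD * p⁻¹ = pD ∨ p * pD * p⁻¹ = pD ^ 2) := by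
  decide +kernel

theorem J_injective : Function.Injective (fun x : Fin 3 × Fin 3 × Fin 2 × Fin 2 =>
    pC ^ x.1.val * pD ^ x.2.1.val * a1 ^ x.2.2.1.val * a2 ^ x.2.2.2.val) := by
  decide +kernel

theorem D_norm_InK' : ∀ (a : Perm (Fin 3)) (b : Perm (Fin 5)), InK (glue35 a b) →
    (∃ i j : Fin 3, glue35 a b * pD * (glue35 a b)⁻¹ = pC ^ i.val * pD ^ j.val) →
    InK' (glue35 a b) := by
  decide +kernel

theorem no_diag_fixed : ∀ a b k : Fin 3,
    a1 * (pC ^ a.val * pD ^ b.val) * a1⁻¹ = (pC ^ a.val * pD ^ b.val) ^ k.val → a = 0 ∨ b = 0 := by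
  decide +kernel

theorem adjust_swap : ∀ b c : Fin 3, b ≠ 0 → c ≠ 0 → ∃ k l : Fin 2,
    (a1 ^ k.val * a2 ^ l.val) * pD ^ b.val * (a1 ^ k.val * a2 ^ l.val)⁻¹ = pD ∧
      (a1 ^ k.val * a2 ^ l.val) * pC ^ c.val * (a1 ^ k.val * a2 ^ l.val)⁻¹ = pC := by
  decide +kernel

theorem J_invol : ∀ (i j : Fin 3) (k l : Fin 2),
    let p := pC ^ i.val * pD ^ j.val * a1 ^ k.val * a2 ^ l.val
    p * p = 1 → p * pC * p⁻¹ = pC → p * pD * p⁻¹ = pD ^ 2 →
      ∃ e : Fin 3, (pC ^ e.val * pD ^ (3 - e.val)) * p * (pC ^ e.val * pD ^ (3 - e.val))⁻¹ = a2 := by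
  decide +kernel

/-- The whole system. -/
theorem exists_sys {G : Type*} [Group G] [Finite G] (P : Sylow 3 G) (D : Subgroup G)
    (hDP : D = P) (y z : G) (hgen : Subgroup.closure {y, z} = D)
    (hcomm : IsMulCommutative D) (hcard : Nat.card D = 9) (hexp : ∀ a ∈ D, a ^ 3 = 1)
    (hC : Subgroup.centralizer (D : Set G) = D)
    (eN : Subgroup.normalizer (D : Set G) ⧸ D.subgroupOf (Subgroup.normalizer (D : Set G)) ≃* DihedralGroup 4)
    (hycard : Nat.card (Subgroup.centralizer ({y} : Set G)) = 18)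
    (eL : Subgroup.normalizer (Subgroup.zpowers z : Set G) ≃* Lg) : Nonempty (Sys G) := by
  haveI : Fact (Nat.Prime 3) := ⟨Nat.prime_three⟩
  obtain ⟨ι, imul, iinj, isurj, hD, i₀, j₀, hy, hzz⟩ := exists_first D y z hgen hcomm hcard hexp eL
  obtain ⟨hc, hd, -, -, ha1, ha2, -⟩ := InK_basic
  set Z := ι pC with hZ
  set W := ι pD with hW
  have ione : ι 1 = 1 := by
    have h := imul InK.one InK.one
    rw [one_mul] at h
    exact mul_eq_left.1 h.symm
  have iinv : ∀ {p : P8}, InK p → ι p⁻¹ = (ι p)⁻¹ := by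
    intro p hp
    apply eq_inv_of_mul_eq_one_left
    rw [← imul hp.inv hp, inv_mul_cancel, ione]
  have ipow : ∀ {p : P8}, InK p → ∀ n : ℕ, ι (p ^ n) = ι p ^ n := by
    intro p hp n
    induction n with
    | zero => rw [pow_zero, pow_zero, ione]
    | succ n ih => rw [pow_succ, pow_succ, imul (hp.pow n) hp, ih]
  have iconj : ∀ {p q : P8}, InK p → InK q → ι (p * q * p⁻¹) = ι p * ι q * (ι p)⁻¹ := by
    intro p q hp hq
    rw [imul (hp.mul hq) hp.inv, imul hp hq, iinv hp]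
  have hZD : Z ∈ D := hD ▸ Subgroup.subset_closure (by simp)
  have hWD : W ∈ D := hD ▸ Subgroup.subset_closure (by simp)
  have hpq : ∀ a b : ℕ, ι (pC ^ a * pD ^ b) = Z ^ a * W ^ b := fun a b => by
    rw [imul (hc.pow _) (hd.pow _), ipow hc, ipow hd]
  have hmemD : ∀ a b : ℕ, ι (pC ^ a * pD ^ b) ∈ D := fun a b => by
    rw [hpq]; exact mul_mem (pow_mem hZD _) (pow_mem hWD _)
  have hform : ∀ d ∈ D, ∃ a b : Fin 3, d = ι (pC ^ a.val * pD ^ b.val) := by
    intro d hd'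
    have hex : ∀ a b : ℕ, ∃ a' b' : Fin 3, Z ^ a * W ^ b = ι (pC ^ a'.val * pD ^ b'.val) := fun a b =>
      ⟨⟨a % 3, Nat.mod_lt _ (by norm_num)⟩, ⟨b % 3, Nat.mod_lt _ (by norm_num)⟩, by
        rw [hpq, ← pow_eq_pow_mod a (hexp _ hZD), ← pow_eq_pow_mod b (hexp _ hWD)]⟩
    have hcZW : Commute Z W := congrArg Subtype.val (hcomm.is_comm.comm ⟨Z, hZD⟩ ⟨W, hWD⟩)
    rw [← hD] at hd'
    suffices ∃ a b : ℕ, d = Z ^ a * W ^ b by
      obtain ⟨a, b, rfl⟩ := this; exact hex a b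
    induction hd' using Subgroup.closure_induction with
    | mem r hr =>
      rcases hr with rfl | rfl
      · exact ⟨1, 0, by simp [hZ]⟩
      · exact ⟨0, 1, by simp [hW]⟩
    | one => exact ⟨0, 0, by simp⟩
    | mul r s _ _ hr hs =>
      obtain ⟨a, b, rfl⟩ := hr
      obtain ⟨c, e, rfl⟩ := hs
      refine ⟨a + c, b + e, ?_⟩
      rw [pow_add, pow_add]
      exact (hcZW.pow_pow c b).symm.mul_mul_mul_comm _ _
    | inv r _ hr =>
      obtain ⟨a, b, rfl⟩ := hr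
      refine ⟨2 * a, 2 * b, inv_eq_of_mul_eq_one_right ?_⟩
      rw [(hcZW.pow_pow (2 * a) b).symm.mul_mul_mul_comm, ← pow_add, ← pow_add,
        show a + 2 * a = 3 * a by ring, show b + 2 * b = 3 * b by ring, pow_mul, pow_mul,
        hexp _ hZD, hexp _ hWD, one_pow, one_pow, one_mul]
  have hNmem : ∀ g : G, g * Z * g⁻¹ ∈ D → g * W * g⁻¹ ∈ D → g ∈ Subgroup.normalizer (D : Set G) := by
    intro g h1 h2
    have hmap : D.map (MulAut.conj g).toMonoidHom = D := by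
      refine Subgroup.eq_of_le_of_card_ge ?_ ?_
      · conv_lhs => rw [← hD]
        rw [MonoidHom.map_closure, Subgroup.closure_le, Set.image_pair]
        rintro r (rfl | rfl)
        · exact h1
        · exact h2
      · rw [Subgroup.card_map_of_injective (MulAut.conj g).injective]
    rw [Subgroup.mem_normalizer_iff]
    intro r
    constructor
    · intro hr
      have : (MulAut.conj g).toMonoidHom r ∈ D.map (MulAut.conj g).toMonoidHom := ⟨r, hr, rfl⟩
      rwa [hmap] at this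
    · intro hr
      have hr' : g * r * g⁻¹ ∈ D.map (MulAut.conj g).toMonoidHom := by rw [hmap]; exact hr
      obtain ⟨s, hs, hse⟩ := hr'
      have : s = r := (MulAut.conj g).injective hse
      exact this ▸ hs
  -- the stabiliser of both lines
  set N := Subgroup.normalizer (D : Set G) with hN
  set Jg := N ⊓ Subgroup.normalizer (Subgroup.zpowers Z : Set G) with hJg
  have hJmem : ∀ {p : P8}, InK p → InK' p → ι p ∈ Jg := by
    intro p hp hp'
    obtain ⟨a, b, rfl⟩ := exists_glue35 hp.1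
    obtain ⟨i, j, k, l, h⟩ := J_form a b hp hp'
    obtain ⟨-, -, hC', hD'⟩ := J_norm i j k l
    rw [← h] at hC' hD'
    have e1 : ι (glue35 a b) * Z * (ι (glue35 a b))⁻¹ ∈ Subgroup.zpowers Z := by
      rw [hZ, ← iconj hp hc]
      rcases hC' with h' | h' <;> rw [h']
      · exact Subgroup.mem_zpowers _
      · rw [ipow hc]; exact pow_mem (Subgroup.mem_zpowers _) _
    refine ⟨hNmem _ ((Subgroup.zpowers_le.2 hZD : Subgroup.zpowers Z ≤ D) e1) ?_, mem_norm_zpowers e1⟩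
    rw [hW, ← iconj hp hd]
    rcases hD' with h' | h' <;> rw [h']
    · exact hWD
    · rw [ipow hd]; exact pow_mem hWD _
  have hJout : ∀ {x : G}, x ∈ Jg → ∃ p, InK p ∧ InK' p ∧ ι p = x := by
    rintro x ⟨hxN, hxz⟩
    obtain ⟨p, hp, rfl⟩ := isurj x ((Subgroup.mem_normalizer_iff.1 hxz Z).1 (Subgroup.mem_zpowers Z))
    obtain ⟨a, b, rfl⟩ := exists_glue35 hp.1
    refine ⟨_, hp, D_norm_InK' a b hp ?_, rfl⟩
    obtain ⟨i, j, hij⟩ := hform _ ((Subgroup.mem_normalizer_iff.1 hxN W).1 hWD)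
    refine ⟨i, j, iinj ((hp.mul hd).mul hp.inv) ((hc.pow _).mul (hd.pow _)) ?_⟩
    rw [iconj hp hd]; exact hij
  have hJcard : Nat.card Jg = 36 := by
    let φ : Fin 3 × Fin 3 × Fin 2 × Fin 2 → Jg := fun x =>
      ⟨ι (pC ^ x.1.val * pD ^ x.2.1.val * a1 ^ x.2.2.1.val * a2 ^ x.2.2.2.val),
        hJmem (J_norm _ _ _ _).1 (J_norm _ _ _ _).2.1⟩
    have hb : Function.Bijective φ := by
      refine ⟨fun a b hab => J_injective (iinj (J_norm _ _ _ _).1 (J_norm _ _ _ _).1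
        (congrArg Subtype.val hab)), ?_⟩
      rintro ⟨x, hx⟩
      obtain ⟨p, hp, hp', rfl⟩ := hJout hx
      obtain ⟨a, b, rfl⟩ := exists_glue35 hp.1
      obtain ⟨i, j, k, l, h⟩ := J_form a b hp hp'
      exact ⟨(i, j, k, l), Subtype.ext (congrArg ι h.symm)⟩
    rw [← Nat.card_congr (Equiv.ofBijective φ hb)]
    simp
  have hNcard : Nat.card N = 72 := by
    rw [Subgroup.card_eq_card_quotient_mul_card_subgroup (D.subgroupOf N),
      Nat.card_congr eN.toEquiv, DihedralGroup.nat_card,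
      Nat.card_congr (Subgroup.subgroupOfEquivOfLe (Subgroup.le_normalizer (H := D))).toEquiv, hcard]
  have hJN : (Jg.subgroupOf N).Normal := by
    refine Subgroup.normal_of_index_eq_two ?_
    have h := (Jg.subgroupOf N).card_mul_index
    rw [Nat.card_congr (Subgroup.subgroupOfEquivOfLe (inf_le_left : Jg ≤ N)).toEquiv, hJcard,
      hNcard] at h
    omega
  have hJconj : ∀ g ∈ N, ∀ x ∈ Jg, g * x * g⁻¹ ∈ Jg := fun g hg x hx =>
    Subgroup.mem_subgroupOf.1 (hJN.conj_mem ⟨x, hx.1⟩ (Subgroup.mem_subgroupOf.2 hx) ⟨g, hg⟩)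
  -- an element exchanging the lines
  obtain ⟨g, hgN, hgJ⟩ : ∃ g ∈ N, g ∉ Jg := by
    by_contra h
    push Not at h
    have := Nat.le_of_dvd Nat.card_pos (Subgroup.card_dvd_of_le (show N ≤ Jg from h))
    omega
  have ha1J : ι a1 ∈ Jg := hJmem ha1 InK'_basic.2.2.1
  have hline : ∀ d ∈ D, g * d * g⁻¹ ∈ D := fun d hd' => (Subgroup.mem_normalizer_iff.1 hgN d).1 hd'
  have hfix : ∀ d, (d = Z ∨ d = W) → ∃ k : Fin 3,
      ι a1 * (g * d * g⁻¹) * (ι a1)⁻¹ = (g * d * g⁻¹) ^ k.val := by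
    intro d hd'
    obtain ⟨p, hp, hp', hpe⟩ := hJout (show g⁻¹ * ι a1 * g ∈ Jg from by
      have := hJconj g⁻¹ (inv_mem hgN) _ ha1J
      rwa [inv_inv] at this)
    obtain ⟨a, b, rfl⟩ := exists_glue35 hp.1
    obtain ⟨i, j, k, l, h⟩ := J_form a b hp hp'
    obtain ⟨-, -, hC', hD'⟩ := J_norm i j k l
    rw [← h] at hC' hD'
    have hex : ∃ k : Fin 3, ι (glue35 a b) * d * (ι (glue35 a b))⁻¹ = d ^ k.val := by
      rcases hd' with rfl | rfl
      · rw [hZ, ← iconj hp hc]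
        rcases hC' with h' | h' <;> rw [h']
        · exact ⟨1, (pow_one _).symm⟩
        · exact ⟨2, ipow hc 2⟩
      · rw [hW, ← iconj hp hd]
        rcases hD' with h' | h' <;> rw [h']
        · exact ⟨1, (pow_one _).symm⟩
        · exact ⟨2, ipow hd 2⟩
    obtain ⟨m, hm⟩ := hex
    refine ⟨m, ?_⟩
    rw [conj_pow, ← hm, hpe]
    group
  have hax : ∀ d, (d = Z ∨ d = W) → ∃ a b : Fin 3, (a = 0 ∨ b = 0) ∧
      g * d * g⁻¹ = ι (pC ^ a.val * pD ^ b.val) := by
    intro d hd'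
    have hdD : d ∈ D := by rcases hd' with rfl | rfl <;> assumption
    obtain ⟨a, b, hab⟩ := hform _ (hline d hdD)
    obtain ⟨k, hk⟩ := hfix d hd'
    have hp : InK (pC ^ a.val * pD ^ b.val) := (hc.pow _).mul (hd.pow _)
    rw [hab, ← iconj ha1 hp, ← ipow hp] at hk
    exact ⟨a, b, no_diag_fixed a b k (iinj ((ha1.mul hp).mul ha1.inv) (hp.pow _) hk), hab⟩
  obtain ⟨a, b, hab0, hab⟩ := hax Z (Or.inl rfl)
  have hb0 : b ≠ 0 := by
    intro hb
    subst hb
    apply hgJ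
    refine ⟨hgN, mem_norm_zpowers ?_⟩
    rw [hab, Fin.val_zero, pow_zero, mul_one, ipow hc]
    exact pow_mem (Subgroup.mem_zpowers _) _
  have ha0 : a = 0 := hab0.resolve_right hb0
  subst ha0
  rw [Fin.val_zero, pow_zero, one_mul] at hab
  obtain ⟨c, e, hce0, hce⟩ := hax W (Or.inr rfl)
  have hcom : ∀ u v : G, u ∈ D → v ∈ D → u * v = v * u := fun u v hu hv =>
    congrArg Subtype.val (hcomm.is_comm.comm ⟨u, hu⟩ ⟨v, hv⟩)
  have hc0 : c ≠ 0 := by
    intro hc'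
    subst hc'
    rw [Fin.val_zero, pow_zero, one_mul] at hce
    have key : ∀ b e : Fin 3, b ≠ 0 → ∃ k : Fin 3, pD ^ e.val = (pD ^ b.val) ^ k.val := by decide +kernel
    obtain ⟨k, hk⟩ := key b e hb0
    have h1 : g * W * g⁻¹ = g * Z ^ k.val * g⁻¹ := by
      rw [hce, hk, ipow (hd.pow _), ← hab, conj_pow]
    have h2 : ι pD = ι (pC ^ k.val) := by rw [ipow hc]; exact mul_left_cancel (mul_right_cancel h1)
    have h3 : ∀ k : Fin 3, pD ≠ pC ^ k.val := by decide +kernel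
    exact h3 k (iinj hd (hc.pow _) h2)
  have he0 : e = 0 := hce0.resolve_left hc0
  subst he0
  rw [Fin.val_zero, pow_zero, mul_one] at hce
  obtain ⟨k, l, hkD, hkC⟩ := adjust_swap b c hb0 hc0
  have hm : InK (a1 ^ k.val * a2 ^ l.val) := (ha1.pow _).mul (ha2.pow _)
  set g0 := ι (a1 ^ k.val * a2 ^ l.val) * g with hg0
  have hgZ : g0 * Z * g0⁻¹ = W := by
    rw [hg0, show ι (a1 ^ k.val * a2 ^ l.val) * g * Z * (ι (a1 ^ k.val * a2 ^ l.val) * g)⁻¹ =
      ι (a1 ^ k.val * a2 ^ l.val) * (g * Z * g⁻¹) * (ι (a1 ^ k.val * a2 ^ l.val))⁻¹ by group, hab,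
      ← iconj hm (hd.pow _), hkD]
  have hgW : g0 * W * g0⁻¹ = Z := by
    rw [hg0, show ι (a1 ^ k.val * a2 ^ l.val) * g * W * (ι (a1 ^ k.val * a2 ^ l.val) * g)⁻¹ =
      ι (a1 ^ k.val * a2 ^ l.val) * (g * W * g⁻¹) * (ι (a1 ^ k.val * a2 ^ l.val))⁻¹ by group, hce,
      ← iconj hm (hc.pow _), hkC]
  have hsqZ : g0 ^ 2 * Z * (g0 ^ 2)⁻¹ = Z := by
    rw [show g0 ^ 2 * Z * (g0 ^ 2)⁻¹ = g0 * (g0 * Z * g0⁻¹) * g0⁻¹ by rw [pow_two]; group, hgZ, hgW]
  have hsqW : g0 ^ 2 * W * (g0 ^ 2)⁻¹ = W := by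
    rw [show g0 ^ 2 * W * (g0 ^ 2)⁻¹ = g0 * (g0 * W * g0⁻¹) * g0⁻¹ by rw [pow_two]; group, hgW, hgZ]
  have hg2 : g0 ^ 2 ∈ D := by
    have hle : D ≤ Subgroup.centralizer {g0 ^ 2} := by
      rw [← hD, Subgroup.closure_le]
      rintro r (rfl | rfl) <;> rw [SetLike.mem_coe, Subgroup.mem_centralizer_singleton_iff]
      · exact ((mul_inv_eq_iff_eq_mul.1 hsqZ).symm :)
      · exact ((mul_inv_eq_iff_eq_mul.1 hsqW).symm :)
    have : g0 ^ 2 ∈ Subgroup.centralizer (D : Set G) := by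
      rw [Subgroup.mem_centralizer_iff]
      intro r hr
      exact Subgroup.mem_centralizer_singleton_iff.1 (hle hr)
    rwa [hC] at this
  set n1 := g0 ^ 3 with hn1def
  have hn1sq : n1 * n1 = 1 := by
    rw [hn1def, ← pow_add, show 3 + 3 = 2 * 3 from rfl, pow_mul, hexp _ hg2]
  have hn1Z : n1 * Z * n1⁻¹ = W := by
    rw [hn1def, show g0 ^ 3 * Z * (g0 ^ 3)⁻¹ = g0 * (g0 ^ 2 * Z * (g0 ^ 2)⁻¹) * g0⁻¹ by
      rw [pow_succ' g0 2]; group, hsqZ, hgZ]
  have hn1W : n1 * W * n1⁻¹ = Z := by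
    rw [hn1def, show g0 ^ 3 * W * (g0 ^ 3)⁻¹ = g0 * (g0 ^ 2 * W * (g0 ^ 2)⁻¹) * g0⁻¹ by
      rw [pow_succ' g0 2]; group, hsqW, hgW]
  have hn1N : n1 ∈ N := hNmem n1 (hn1Z ▸ hWD) (hn1W ▸ hZD)
  obtain ⟨p, hp, hp', hpe⟩ := hJout (hJconj n1 hn1N _ ha1J)
  have hn1i : n1⁻¹ = n1 := inv_eq_of_mul_eq_one_right hn1sq
  have hn1Z' : n1 * Z * n1 = W := by nth_rewrite 2 [← hn1i]; exact hn1Z
  have hn1W' : n1 * W * n1 = Z := by nth_rewrite 2 [← hn1i]; exact hn1W
  have hia1 : (ι a1)⁻¹ = ι a1 := by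
    refine inv_eq_of_mul_eq_one_right ?_
    rw [← imul ha1 ha1, show a1 * a1 = 1 by decide +kernel, ione]
  have hp2 : p * p = 1 := by
    refine iinj (hp.mul hp) InK.one ?_
    rw [imul hp hp, hpe, ione]
    calc n1 * ι a1 * n1⁻¹ * (n1 * ι a1 * n1⁻¹) = n1 * (ι a1 * ι a1) * n1⁻¹ := by group
      _ = 1 := by
        rw [← imul ha1 ha1, show a1 * a1 = 1 by decide +kernel, ione]; group
  have ha1C : a1 * pC * a1⁻¹ = pC ^ 2 ∧ a1 * pD * a1⁻¹ = pD := by decide +kernel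
  have hpC : p * pC * p⁻¹ = pC := by
    refine iinj ((hp.mul hc).mul hp.inv) hc ?_
    rw [iconj hp hc, hpe, ← hZ]
    calc n1 * ι a1 * n1⁻¹ * Z * (n1 * ι a1 * n1⁻¹)⁻¹
        = n1 * (ι a1 * (n1⁻¹ * Z * n1) * (ι a1)⁻¹) * n1⁻¹ := by group
      _ = Z := by rw [hn1i, hn1Z', hW, ← iconj ha1 hd, ha1C.2, ← hW, hn1W']
  have hpD : p * pD * p⁻¹ = pD ^ 2 := by
    refine iinj ((hp.mul hd).mul hp.inv) (hd.pow _) ?_
    rw [iconj hp hd, hpe, ipow hd, ← hW]
    calc n1 * ι a1 * n1⁻¹ * W * (n1 * ι a1 * n1⁻¹)⁻¹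
        = n1 * (ι a1 * (n1⁻¹ * W * n1) * (ι a1)⁻¹) * n1⁻¹ := by group
      _ = W ^ 2 := by
        rw [hn1i, hn1W', hZ, ← iconj ha1 hc, ha1C.1, ipow hc, ← hZ]
        nth_rewrite 2 [← hn1i]
        rw [← conj_pow, hn1Z]
  obtain ⟨a', b', rfl⟩ := exists_glue35 hp.1
  obtain ⟨i1, j1, k1, l1, hpf⟩ := J_form a' b' hp hp'
  rw [hpf] at hp2 hpC hpD
  obtain ⟨ε, hε⟩ := J_invol i1 j1 k1 l1 hp2 hpC hpD
  rw [← hpf] at hε
  have hse : InK (pC ^ ε.val * pD ^ (3 - ε.val)) := (hc.pow _).mul (hd.pow _)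
  set E := ι (pC ^ ε.val * pD ^ (3 - ε.val)) with hE
  have hED : E ∈ D := hmemD _ _
  set n := E * n1 with hndef
  have hnn : n * n = 1 := by
    rw [hndef, show E * n1 * (E * n1) = E * (n1 * E * n1⁻¹) * (n1 * n1) by group, hn1sq, mul_one,
      hE, hpq, show n1 * (Z ^ ε.val * W ^ (3 - ε.val)) * n1⁻¹ =
        (n1 * Z ^ ε.val * n1⁻¹) * (n1 * W ^ (3 - ε.val) * n1⁻¹) by group, ← conj_pow, ← conj_pow,
      hn1Z, hn1W]
    calc Z ^ ε.val * W ^ (3 - ε.val) * (W ^ ε.val * Z ^ (3 - ε.val))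
        = Z ^ ε.val * ((W ^ (3 - ε.val) * W ^ ε.val) * Z ^ (3 - ε.val)) := by group
      _ = 1 := by
        rw [← pow_add W, show 3 - ε.val + ε.val = 3 by omega, hexp _ hWD, one_mul, ← pow_add,
          show ε.val + (3 - ε.val) = 3 by omega, hexp _ hZD]
  have hnZ : n * Z * n⁻¹ = W := by
    rw [hndef, show E * n1 * Z * (E * n1)⁻¹ = E * (n1 * Z * n1⁻¹) * E⁻¹ by group, hn1Z,
      hcom E W hED hWD, mul_inv_cancel_right]
  have hnW : n * W * n⁻¹ = Z := by
    rw [hndef, show E * n1 * W * (E * n1)⁻¹ = E * (n1 * W * n1⁻¹) * E⁻¹ by group, hn1W,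
      hcom E Z hED hZD, mul_inv_cancel_right]
  have hna : n * ι a1 * n⁻¹ = ι a2 := by
    rw [hndef, show E * n1 * ι a1 * (E * n1)⁻¹ = E * (n1 * ι a1 * n1⁻¹) * E⁻¹ by group, ← hpe, hE,
      ← iconj hse hp, hε]
  have hni : n⁻¹ = n := inv_eq_of_mul_eq_one_right hnn
  have hna' : n * ι a2 * n⁻¹ = ι a1 := by
    rw [← hna, hni]
    calc n * (n * ι a1 * n) * n = n * n * ι a1 * (n * n) := by group
      _ = ι a1 := by rw [hnn, one_mul, mul_one]
  -- the second coordinate of `y`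
  have hy' := hy
  have hZcent : Nat.card (Subgroup.centralizer {W} : Subgroup G) =
      Nat.card (Subgroup.centralizer {Z} : Subgroup G) := by
    refine Nat.card_congr
      { toFun := fun x => ⟨n⁻¹ * x.1 * n, ?_⟩
        invFun := fun x => ⟨n * x.1 * n⁻¹, ?_⟩
        left_inv := fun x => Subtype.ext (by group)
        right_inv := fun x => Subtype.ext (by group) }
    · have hx := Subgroup.mem_centralizer_singleton_iff.1 x.2
      rw [Subgroup.mem_centralizer_singleton_iff]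
      calc _ = n⁻¹ * ((x : G) * (n * Z * n⁻¹)) * n := by group
        _ = n⁻¹ * ((n * Z * n⁻¹) * (x : G)) * n := by rw [hnZ, hx]
        _ = _ := by group
    · have hx := Subgroup.mem_centralizer_singleton_iff.1 x.2
      rw [Subgroup.mem_centralizer_singleton_iff]
      nth_rewrite 2 [← hnZ]
      rw [← hnZ]
      calc _ = n * ((x : G) * Z) * n⁻¹ := by group
        _ = _ := by rw [hx]; group
  let f5 : P8 := H62.cyc3 3 4 5 * H62.cyc3 5 6 7
  have hf5 : InK f5 ∧ f5 ^ 5 = 1 ∧ f5 ≠ 1 ∧ f5 * pC = pC * f5 := by decide +kernel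
  have h5 : 5 ∣ Nat.card (Subgroup.centralizer {Z} : Subgroup G) := by
    haveI : Fact (Nat.Prime 5) := ⟨by norm_num⟩
    have h5 : orderOf (ι f5) = 5 := orderOf_eq_prime (by rw [← ipow hf5.1, hf5.2.1, ione])
      fun h => hf5.2.2.1 (iinj hf5.1 InK.one (by rw [h, ione]))
    have hm : ι f5 ∈ (Subgroup.centralizer {Z} : Subgroup G) := by
      rw [Subgroup.mem_centralizer_singleton_iff, hZ, ← imul hf5.1 hc, hf5.2.2.2, imul hc hf5.1]
    have h := orderOf_dvd_natCard (⟨ι f5, hm⟩ : (Subgroup.centralizer {Z} : Subgroup G))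
    rwa [Subgroup.orderOf_mk, h5] at h
  have hcong : ∀ (u : G) (k : ℕ), u ∈ D → y = u ^ k →
      Subgroup.centralizer {u} ≤ Subgroup.centralizer {y} := by
    intro u k _ hyu x hx
    rw [Subgroup.mem_centralizer_singleton_iff] at hx ⊢
    rw [hyu]
    exact (Commute.pow_right hx k).eq
  have h18 : ¬ 5 ∣ Nat.card (Subgroup.centralizer {y} : Subgroup G) := by rw [hycard]; norm_num
  have hij : i₀ ≠ 0 ∧ j₀ ≠ 0 := by
    constructor
    · intro hi
      subst hi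
      rw [hpq, Fin.val_zero, pow_zero, one_mul] at hy'
      exact h18 (((hZcent ▸ h5 : 5 ∣ Nat.card (Subgroup.centralizer {W} : Subgroup G))).trans
        (Subgroup.card_dvd_of_le (hcong W _ hWD hy')))
    · intro hj
      subst hj
      rw [hpq, Fin.val_zero, pow_zero, mul_one] at hy'
      exact h18 (h5.trans (Subgroup.card_dvd_of_le (hcong Z _ hZD hy')))
  have hcardY : Nat.card (Subgroup.centralizer {ι pC * ι pD} : Subgroup G) = 18 := by
    obtain ⟨k', l', hkl⟩ := diag_conj i₀ j₀ hij.1 hij.2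
    have hm' : InK (a1 ^ k'.val * a2 ^ l'.val) := (ha1.pow _).mul (ha2.pow _)
    rw [← hkl, iconj hm' (hc.mul hd), imul hc hd] at hy
    rw [← hycard]
    set m := ι (a1 ^ k'.val * a2 ^ l'.val)
    refine Nat.card_congr
      { toFun := fun x => ⟨m * x.1 * m⁻¹, ?_⟩
        invFun := fun x => ⟨m⁻¹ * x.1 * m, ?_⟩
        left_inv := fun x => Subtype.ext (by group)
        right_inv := fun x => Subtype.ext (by group) }
    · have hx := Subgroup.mem_centralizer_singleton_iff.1 x.2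
      rw [Subgroup.mem_centralizer_singleton_iff, hy]
      calc _ = m * ((x : G) * (ι pC * ι pD)) * m⁻¹ := by group
        _ = _ := by rw [hx]; group
    · have hx : (x : G) * (m * (ι pC * ι pD) * m⁻¹) = (m * (ι pC * ι pD) * m⁻¹) * x :=
        hy ▸ Subgroup.mem_centralizer_singleton_iff.1 x.2
      rw [Subgroup.mem_centralizer_singleton_iff]
      calc _ = m⁻¹ * ((x : G) * (m * (ι pC * ι pD) * m⁻¹)) * m := by group
        _ = _ := by rw [hx]; group
  let jm : P8 → G := fun p => n * ι (sig * p * sig) * n⁻¹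
  refine ⟨{ ι := ι, j := jm, ι_mul := @imul, ι_inj := @iinj, ι_surj := isurj, j_mul := ?_,
            j_inj := ?_, j_surj := ?_, agree := ?_, not27 := ?_,
            conj_a := (isConj_iff.2 ⟨n, hna'⟩), cardY := hcardY }⟩
  · intro p q hp hq
    show n * ι (sig * (p * q) * sig) * n⁻¹ =
      n * ι (sig * p * sig) * n⁻¹ * (n * ι (sig * q * sig) * n⁻¹)
    rw [sigConj_mul, imul hp hq]
    group
  · intro p q hp hq h
    have h' := iinj hp hq (mul_left_cancel (mul_right_cancel h))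
    rw [← sigConj p, ← sigConj q, h']
  · intro x hx
    have hjD : jm pD = W := by
      show n * ι (sig * pD * sig) * n⁻¹ = W
      rw [show sig * pD * sig = pC by decide +kernel, ← hZ, hnZ]
    rw [hjD] at hx
    obtain ⟨k', hk'⟩ := Subgroup.mem_zpowers_iff.1 hx
    obtain ⟨q, hq, hqe⟩ := isurj (n⁻¹ * x * n) (by
      refine Subgroup.mem_zpowers_iff.2 ⟨k', ?_⟩
      calc Z ^ k' = n⁻¹ * (n * Z ^ k' * n⁻¹) * n := by group
        _ = n⁻¹ * (x * W * x⁻¹) * n := by rw [← conj_zpow, hnZ, hk']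
        _ = _ := by rw [← hnZ]; group)
    refine ⟨sig * q * sig, ?_, ?_⟩
    · show InK (sig * (sig * q * sig) * sig)
      rw [sigConj]; exact hq
    · show n * ι (sig * (sig * q * sig) * sig) * n⁻¹ = x
      rw [sigConj, hqe]; group
  · intro p hp hp'
    obtain ⟨a, b, rfl⟩ := exists_glue35 hp.1
    obtain ⟨i, j, k, l, h⟩ := J_form a b hp hp'
    have hs : ∀ (i j : Fin 3) (k l : Fin 2),
        sig * (pC ^ i.val * pD ^ j.val * a1 ^ k.val * a2 ^ l.val) * sig =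
          pD ^ i.val * pC ^ j.val * a2 ^ k.val * a1 ^ l.val := by decide +kernel
    show n * ι (sig * glue35 a b * sig) * n⁻¹ = ι (glue35 a b)
    rw [h, hs, imul (((hd.pow _).mul (hc.pow _)).mul (ha2.pow _)) (ha1.pow _),
      imul ((hd.pow _).mul (hc.pow _)) (ha2.pow _), imul (hd.pow _) (hc.pow _),
      imul (((hc.pow _).mul (hd.pow _)).mul (ha1.pow _)) (ha2.pow _),
      imul ((hc.pow _).mul (hd.pow _)) (ha1.pow _), imul (hc.pow _) (hd.pow _),
      ipow hc, ipow hc, ipow hd, ipow hd, ipow ha1, ipow ha1, ipow ha2, ipow ha2, ← hZ, ← hW]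
    calc n * (W ^ i.val * Z ^ j.val * ι a2 ^ k.val * ι a1 ^ l.val) * n⁻¹
        = (n * W ^ i.val * n⁻¹) * (n * Z ^ j.val * n⁻¹) * (n * ι a2 ^ k.val * n⁻¹) *
          (n * ι a1 ^ l.val * n⁻¹) := by group
      _ = _ := by rw [← conj_pow, ← conj_pow, ← conj_pow, ← conj_pow, hnW, hnZ, hna, hna']
  · intro h27
    have h := P.card_eq_multiplicity
    rw [← hDP, hcard] at h
    have h2 : (Nat.card G).factorization 3 = 2 :=
      (Nat.pow_right_injective (by norm_num : 2 ≤ 3) (show 3 ^ 2 = 3 ^ _ from h)).symm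
    have := (Nat.prime_three.pow_dvd_iff_le_factorization (k := 3) Nat.card_pos.ne').1 h27
    omega

end Cfsg.Agent.H17.AltEight
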